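import Cfsg.Agent.H967.Sph.Oper_m3
import Cfsg.Agent.H710.R4.Sph_m3
import Cfsg.Agent.H53.HC.TwoTwE6
import Cfsg.Agent.H651.Two.Row
import Cfsg.Agent.H816.IMM
import Cfsg.Agent.Prune
set_option linter.all false

section
prune_inst 0x7ffffffeffffffffdfff7e7ffffdfffffbffffffffdffb43ffefefffbffffbff7bedfbaf9feffbff8ed6eef630f87bd3fb7eefffef6fdc7ffffdfff45ffbffcffdf7bf8951df99b40fbc2fff73f07fc86f3fffffffffffffffffffffffffffffffffffffffff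

-- part: H654/Two/F4Row
section
set_option linter.all false
open scoped Cfsg.Agent.FastGrp
attribute [-instance] Rat.instPowNat

-- part: H654/Two/F4Tab
section
/-!
# The spherical machine for `F₄`: the table of `G / P_0` (helper654, task 838)

`tab hA`: the 24 states and 5 classes of the weight `e_0` for the Cartan matrix of type `F₄`; `sumD`: the operator of the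
neighbour relation for the parameters `(x, x, y, y)`.
-/

set_option autoImplicit false
set_option maxHeartbeats 4000000
set_option linter.unusedVariables false
set_option linter.unusedTactic false
set_option linter.unreachableTactic false

namespace Cfsg.Agent.H654.Two.F4Tab

open Cfsg.Agent.H967.Sph

/-- the Cartan matrix -/
def AA : Fin 4 → Fin 4 → ℤ := ![![2, -1, 0, 0], ![-1, 2, -2, 0], ![0, -1, 2, -1], ![0, 0, -1, 2]]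

/-- the states -/
def vecT : Fin 24 → Fin 4 → ℤ := ![![1, 0, 0, 0], ![-1, 1, 0, 0], ![0, -1, 2, 0], ![0, 1, -2, 2], ![1, -1, 0, 2], ![0, 1, 0, -2], ![-1, 0, 0, 2], ![1, -1, 2, -2], ![-1, 0, 2, -2], ![1, 1, -2, 0], ![-1, 2, -2, 0], ![2, -1, 0, 0], ![1, -2, 2, 0], ![-2, 1, 0, 0], ![-1, -1, 2, 0], ![1, 0, -2, 2], ![-1, 1, -2, 2], ![1, 0, 0, -2], ![0, -1, 0, 2], ![-1, 1, 0, -2], ![0, -1, 2, -2], ![0, 1, -2, 0], ![1, -1, 0, 0], ![-1, 0, 0, 0]]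

/-- the transitions -/
def stT : Fin 4 → Fin 24 → Fin 24 := ![![1, 0, 2, 3, 6, 5, 4, 8, 7, 10, 9, 13, 14, 11, 12, 16, 15, 19, 18, 17, 20, 21, 23, 22], ![0, 2, 1, 4, 3, 7, 6, 5, 8, 11, 12, 9, 10, 14, 13, 15, 18, 17, 16, 20, 19, 22, 21, 23], ![0, 1, 3, 2, 4, 5, 6, 9, 10, 7, 8, 11, 15, 13, 16, 12, 14, 17, 18, 19, 21, 20, 22, 23], ![0, 1, 2, 5, 7, 3, 8, 4, 6, 9, 10, 11, 12, 13, 14, 17, 19, 15, 20, 16, 18, 21, 22, 23]]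

/-- the classes -/
def clsT : Fin 24 → Fin 5 := ![0, 1, 1, 1, 1, 1, 2, 1, 2, 1, 2, 1, 2, 3, 3, 2, 3, 2, 3, 3, 3, 3, 3, 4]

/-- the representatives of the classes -/
def crepT : Fin 5 → Fin 24 := ![0, 1, 6, 13, 23]

/-- paths -/
def pathT : Fin 24 → List (Fin 4) := ![[], [0], [0, 1], [0, 1, 2], [0, 1, 2, 1], [0, 1, 2, 3], [0, 1, 2, 1, 0], [0, 1, 2, 1, 3], [0, 1, 2, 1, 0, 3], [0, 1, 2, 1, 3, 2], [0, 1, 2, 1, 0, 3, 2], [0, 1, 2, 1, 3, 2, 1], [0, 1, 2, 1, 0, 3, 2, 1], [0, 1, 2, 1, 3, 2, 1, 0], [0, 1, 2, 1, 0, 3, 2, 1, 0], [0, 1, 2, 1, 0, 3, 2, 1, 2], [0, 1, 2, 1, 0, 3, 2, 1, 0, 2], [0, 1, 2, 1, 0, 3, 2, 1, 2, 3], [0, 1, 2, 1, 0, 3, 2, 1, 0, 2, 1], [0, 1, 2, 1, 0, 3, 2, 1, 0, 2, 3], [0, 1, 2, 1, 0, 3, 2, 1, 0, 2, 1, 3],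 [0, 1, 2, 1, 0, 3, 2, 1, 0, 2, 1, 3, 2], [0, 1, 2, 1, 0, 3, 2, 1, 0, 2, 1, 3, 2, 1], [0, 1, 2, 1, 0, 3, 2, 1, 0, 2, 1, 3, 2, 1, 0]]

/-- paths inside the classes -/
def cpathT : Fin 24 → List (Fin 4) := ![[], [], [1], [1, 2], [1, 2, 1], [1, 2, 3], [], [1, 2, 1, 3], [3], [1, 2, 1, 3, 2], [3, 2], [1, 2, 1, 3, 2, 1], [3, 2, 1], [], [1], [3, 2, 1, 2], [1, 2], [3, 2, 1, 2, 3], [1, 2, 1], [1, 2, 3], [1, 2, 1, 3], [1, 2, 1, 3, 2], [1, 2, 1, 3, 2, 1], []]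

/-- the words of the neighbours -/
def DD : List (List (Fin 4)) := [[0], [1, 0], [2, 1, 0], [1, 2, 1, 0], [3, 2, 1, 0], [3, 1, 2, 1, 0], [2, 3, 1, 2, 1, 0], [1, 2, 3, 1, 2, 1, 0]]

theorem vec_st_T : ∀ i a k, vecT (stT i a) k = vecT a k - AA i k * vecT a i := by decide +kernel

variable {A : Fin 4 → Fin 4 → ℤ} (hA : ∀ i k, A i k = AA i k)

/-- **The table.** -/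
def tab : Tab A 0 24 5 where
  vec := vecT
  st := stT
  cls := clsT
  o := 0
  vec_o := by decide +kernel
  vec_inj := by decide +kernel
  vec_st i a k := by rw [hA i k]; exact vec_st_T i a k
  path := pathT
  path_spec := by decide +kernel
  cls_st := by decide +kernel
  crep := crepT
  cpath := cpathT
  cpath_ne := by decide +kernel
  cpath_spec := by decide +kernel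

variable (q : Fin 4 → ℕ)

theorem tau_neg {i : Fin 4} {s : Fin 24} (h : vecT s i < 0) (φ : Fin 24 → ℚ) :
    (tab hA).tau q i φ s = φ (stT i s) + ((q i : ℚ) - 1) * φ s := if_pos h

theorem tau_nonneg {i : Fin 4} {s : Fin 24} (h : ¬ vecT s i < 0) (φ : Fin 24 → ℚ) :
    (tab hA).tau q i φ s = (q i : ℚ) * φ (stT i s) := if_neg h

/-- values -/
def V0 (x y : ℚ) (b : Fin 5 → ℚ) : Fin 24 → ℚ := ![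
  b 0,
  b 1,
  b 1,
  b 1,
  b 1,
  b 1,
  b 2,
  b 1,
  b 2,
  b 1,
  b 2,
  b 1,
  b 2,
  b 3,
  b 3,
  b 2,
  b 3,
  b 2,
  b 3,
  b 3,
  b 3,
  b 3,
  b 3,
  b 4]

/-- values -/
def V1 (x y : ℚ) (b : Fin 5 → ℚ) : Fin 24 → ℚ := ![
  (x) * b 1,
  b 0 + (-1 + x) * b 1,
  (x) * b 1,
  (x) * b 1,
  (x) * b 2,
  (x) * b 1,
  b 1 + (-1 + x) * b 2,
  (x) * b 2,
  b 1 + (-1 + x) * b 2,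
  (x) * b 2,
  b 1 + (-1 + x) * b 2,
  (x) * b 3,
  (x) * b 3,
  b 1 + (-1 + x) * b 3,
  b 2 + (-1 + x) * b 3,
  (x) * b 3,
  b 2 + (-1 + x) * b 3,
  (x) * b 3,
  (x) * b 3,
  b 2 + (-1 + x) * b 3,
  (x) * b 3,
  (x) * b 3,
  (x) * b 4,
  b 3 + (-1 + x) * b 4]

/-- values -/
def V2 (x y : ℚ) (b : Fin 5 → ℚ) : Fin 24 → ℚ := ![
  (x^(2:ℕ)) * b 1,
  (x^(2:ℕ)) * b 1,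
  b 0 + (-1 + x^(2:ℕ)) * b 1,
  (x^(2:ℕ)) * b 2,
  (x) * b 1 + (-x + x^(2:ℕ)) * b 2,
  (x^(2:ℕ)) * b 2,
  (x) * b 1 + (-x + x^(2:ℕ)) * b 2,
  (x) * b 1 + (-x + x^(2:ℕ)) * b 2,
  (x) * b 1 + (-x + x^(2:ℕ)) * b 2,
  (x^(2:ℕ)) * b 3,
  (x^(2:ℕ)) * b 3,
  (x) * b 2 + (-x + x^(2:ℕ)) * b 3,
  b 1 + (-1 + x) * b 2 + (-x + x^(2:ℕ)) * b 3,
  (x) * b 2 + (-x + x^(2:ℕ)) * b 3,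
  b 1 + (-1 + x) * b 2 + (-x + x^(2:ℕ)) * b 3,
  (x^(2:ℕ)) * b 3,
  (x^(2:ℕ)) * b 3,
  (x^(2:ℕ)) * b 3,
  b 2 + (-1 + x^(2:ℕ)) * b 3,
  (x^(2:ℕ)) * b 3,
  b 2 + (-1 + x^(2:ℕ)) * b 3,
  (x^(2:ℕ)) * b 4,
  (x) * b 3 + (-x + x^(2:ℕ)) * b 4,
  (x) * b 3 + (-x + x^(2:ℕ)) * b 4]

/-- values -/
def V3 (x y : ℚ) (b : Fin 5 → ℚ) : Fin 24 → ℚ := ![
  (x^(2:ℕ)*y) * b 1,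
  (x^(2:ℕ)*y) * b 1,
  (x^(2:ℕ)*y) * b 2,
  b 0 + (-1 + x^(2:ℕ)) * b 1 + (-x^(2:ℕ) + x^(2:ℕ)*y) * b 2,
  (x*y) * b 1 + (-x*y + x^(2:ℕ)*y) * b 2,
  (x^(2:ℕ)*y) * b 2,
  (x*y) * b 1 + (-x*y + x^(2:ℕ)*y) * b 2,
  (x^(2:ℕ)*y) * b 3,
  (x^(2:ℕ)*y) * b 3,
  (x) * b 1 + (-x + x^(2:ℕ)) * b 2 + (-x^(2:ℕ) + x^(2:ℕ)*y) * b 3,
  (x) * b 1 + (-x + x^(2:ℕ)) * b 2 + (-x^(2:ℕ) + x^(2:ℕ)*y) * b 3,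
  (x*y) * b 2 + (-x*y + x^(2:ℕ)*y) * b 3,
  (x^(2:ℕ)*y) * b 3,
  (x*y) * b 2 + (-x*y + x^(2:ℕ)*y) * b 3,
  (x^(2:ℕ)*y) * b 3,
  b 1 + (-1 + x) * b 2 + (-x + x^(2:ℕ)*y) * b 3,
  b 1 + (-1 + x) * b 2 + (-x + x^(2:ℕ)*y) * b 3,
  (x^(2:ℕ)*y) * b 3,
  (y) * b 2 + (-y + x^(2:ℕ)*y) * b 3,
  (x^(2:ℕ)*y) * b 3,
  (x^(2:ℕ)*y) * b 4,
  b 2 + (-1 + x^(2:ℕ)) * b 3 + (-x^(2:ℕ) + x^(2:ℕ)*y) * b 4,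
  (x*y) * b 3 + (-x*y + x^(2:ℕ)*y) * b 4,
  (x*y) * b 3 + (-x*y + x^(2:ℕ)*y) * b 4]

/-- values -/
def V4 (x y : ℚ) (b : Fin 5 → ℚ) : Fin 24 → ℚ := ![
  (x^(3:ℕ)*y) * b 1,
  (x^(3:ℕ)*y) * b 2,
  (x^(2:ℕ)*y) * b 1 + (-x^(2:ℕ)*y + x^(3:ℕ)*y) * b 2,
  (x^(2:ℕ)*y) * b 1 + (-x^(2:ℕ)*y + x^(3:ℕ)*y) * b 2,
  b 0 + (-1 - x*y + x^(2:ℕ) + x^(2:ℕ)*y) * b 1 + (x*y - x^(2:ℕ) - x^(2:ℕ)*y + x^(3:ℕ)*y) * b 2,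
  (x^(3:ℕ)*y) * b 3,
  (x^(2:ℕ)*y) * b 1 + (-x^(2:ℕ)*y + x^(3:ℕ)*y) * b 2,
  (x^(2:ℕ)*y) * b 2 + (-x^(2:ℕ)*y + x^(3:ℕ)*y) * b 3,
  (x^(3:ℕ)*y) * b 3,
  (x^(2:ℕ)*y) * b 2 + (-x^(2:ℕ)*y + x^(3:ℕ)*y) * b 3,
  (x^(3:ℕ)*y) * b 3,
  (x) * b 1 + (-x - x*y + x^(2:ℕ) + x^(2:ℕ)*y) * b 2 + (x*y - x^(2:ℕ) - x^(2:ℕ)*y + x^(3:ℕ)*y) * b 3,
  (x) * b 1 + (-x + x^(2:ℕ)) * b 2 + (-x^(2:ℕ) + x^(3:ℕ)*y) * b 3,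
  (x^(3:ℕ)*y) * b 3,
  (x*y) * b 2 + (-x*y + x^(3:ℕ)*y) * b 3,
  (x) * b 1 + (-x + x^(2:ℕ)) * b 2 + (-x^(2:ℕ) + x^(3:ℕ)*y) * b 3,
  (x*y) * b 2 + (-x*y + x^(3:ℕ)*y) * b 3,
  (x^(3:ℕ)*y) * b 3,
  b 1 + (-1 - y + x + x*y) * b 2 + (y - x - x*y + x^(3:ℕ)*y) * b 3,
  (x^(3:ℕ)*y) * b 4,
  (x^(2:ℕ)*y) * b 3 + (-x^(2:ℕ)*y + x^(3:ℕ)*y) * b 4,
  (x^(2:ℕ)*y) * b 3 + (-x^(2:ℕ)*y + x^(3:ℕ)*y) * b 4,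
  b 2 + (-1 - x*y + x^(2:ℕ) + x^(2:ℕ)*y) * b 3 + (x*y - x^(2:ℕ) - x^(2:ℕ)*y + x^(3:ℕ)*y) * b 4,
  (x^(2:ℕ)*y) * b 3 + (-x^(2:ℕ)*y + x^(3:ℕ)*y) * b 4]

/-- values -/
def V5 (x y : ℚ) (b : Fin 5 → ℚ) : Fin 24 → ℚ := ![
  (x^(2:ℕ)*y^(2:ℕ)) * b 1,
  (x^(2:ℕ)*y^(2:ℕ)) * b 1,
  (x^(2:ℕ)*y^(2:ℕ)) * b 2,
  (x^(2:ℕ)*y^(2:ℕ)) * b 2,
  (x^(2:ℕ)*y^(2:ℕ)) * b 3,
  b 0 + (-1 + x^(2:ℕ)) * b 1 + (-x^(2:ℕ) + x^(2:ℕ)*y^(2:ℕ)) * b 2,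
  (x^(2:ℕ)*y^(2:ℕ)) * b 3,
  (x*y) * b 1 + (-x*y + x^(2:ℕ)*y) * b 2 + (-x^(2:ℕ)*y + x^(2:ℕ)*y^(2:ℕ)) * b 3,
  (x*y) * b 1 + (-x*y + x^(2:ℕ)*y) * b 2 + (-x^(2:ℕ)*y + x^(2:ℕ)*y^(2:ℕ)) * b 3,
  (x*y) * b 1 + (-x*y + x^(2:ℕ)*y) * b 2 + (-x^(2:ℕ)*y + x^(2:ℕ)*y^(2:ℕ)) * b 3,
  (x*y) * b 1 + (-x*y + x^(2:ℕ)*y) * b 2 + (-x^(2:ℕ)*y + x^(2:ℕ)*y^(2:ℕ)) * b 3,
  (x*y^(2:ℕ)) * b 2 + (-x*y^(2:ℕ) + x^(2:ℕ)*y^(2:ℕ)) * b 3,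
  (x^(2:ℕ)*y^(2:ℕ)) * b 3,
  (x*y^(2:ℕ)) * b 2 + (-x*y^(2:ℕ) + x^(2:ℕ)*y^(2:ℕ)) * b 3,
  (x^(2:ℕ)*y^(2:ℕ)) * b 3,
  (x^(2:ℕ)*y^(2:ℕ)) * b 3,
  (x^(2:ℕ)*y^(2:ℕ)) * b 3,
  b 1 + (-1 + x) * b 2 + (-x + x^(2:ℕ)*y^(2:ℕ)) * b 3,
  (x^(2:ℕ)*y^(2:ℕ)) * b 4,
  b 1 + (-1 + x) * b 2 + (-x + x^(2:ℕ)*y^(2:ℕ)) * b 3,
  (y) * b 2 + (-y + x^(2:ℕ)*y) * b 3 + (-x^(2:ℕ)*y + x^(2:ℕ)*y^(2:ℕ)) * b 4,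
  (y) * b 2 + (-y + x^(2:ℕ)*y) * b 3 + (-x^(2:ℕ)*y + x^(2:ℕ)*y^(2:ℕ)) * b 4,
  (x*y^(2:ℕ)) * b 3 + (-x*y^(2:ℕ) + x^(2:ℕ)*y^(2:ℕ)) * b 4,
  (x*y^(2:ℕ)) * b 3 + (-x*y^(2:ℕ) + x^(2:ℕ)*y^(2:ℕ)) * b 4]

/-- values -/
def V6 (x y : ℚ) (b : Fin 5 → ℚ) : Fin 24 → ℚ := ![
  (x^(3:ℕ)*y^(2:ℕ)) * b 1,
  (x^(3:ℕ)*y^(2:ℕ)) * b 2,
  (x^(2:ℕ)*y^(2:ℕ)) * b 1 + (-x^(2:ℕ)*y^(2:ℕ) + x^(3:ℕ)*y^(2:ℕ)) * b 2,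
  (x^(3:ℕ)*y^(2:ℕ)) * b 3,
  (x^(2:ℕ)*y^(2:ℕ)) * b 2 + (-x^(2:ℕ)*y^(2:ℕ) + x^(3:ℕ)*y^(2:ℕ)) * b 3,
  (x^(2:ℕ)*y) * b 1 + (-x^(2:ℕ)*y + x^(3:ℕ)*y) * b 2 + (-x^(3:ℕ)*y + x^(3:ℕ)*y^(2:ℕ)) * b 3,
  (x^(3:ℕ)*y^(2:ℕ)) * b 3,
  b 0 + (-1 - x*y + x^(2:ℕ) + x^(2:ℕ)*y) * b 1 + (x*y - x^(2:ℕ) - 2*x^(2:ℕ)*y + x^(2:ℕ)*y^(2:ℕ) + x^(3:ℕ)*y) * b 2 + (x^(2:ℕ)*y - x^(2:ℕ)*y^(2:ℕ) - x^(3:ℕ)*y + x^(3:ℕ)*y^(2:ℕ)) * b 3,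
  (x^(2:ℕ)*y) * b 1 + (-x^(2:ℕ)*y + x^(3:ℕ)*y) * b 2 + (-x^(3:ℕ)*y + x^(3:ℕ)*y^(2:ℕ)) * b 3,
  (x^(2:ℕ)*y^(2:ℕ)) * b 2 + (-x^(2:ℕ)*y^(2:ℕ) + x^(3:ℕ)*y^(2:ℕ)) * b 3,
  (x^(3:ℕ)*y^(2:ℕ)) * b 3,
  (x*y) * b 1 + (-x*y - x*y^(2:ℕ) + x^(2:ℕ)*y + x^(2:ℕ)*y^(2:ℕ)) * b 2 + (x*y^(2:ℕ) - x^(2:ℕ)*y - x^(2:ℕ)*y^(2:ℕ) + x^(3:ℕ)*y^(2:ℕ)) * b 3,
  (x*y) * b 1 + (-x*y + x^(2:ℕ)*y) * b 2 + (-x^(2:ℕ)*y + x^(3:ℕ)*y^(2:ℕ)) * b 3,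
  (x^(3:ℕ)*y^(2:ℕ)) * b 3,
  (x*y^(2:ℕ)) * b 2 + (-x*y^(2:ℕ) + x^(3:ℕ)*y^(2:ℕ)) * b 3,
  (x^(3:ℕ)*y^(2:ℕ)) * b 3,
  (x^(3:ℕ)*y^(2:ℕ)) * b 4,
  (x) * b 1 + (-x + x^(2:ℕ)) * b 2 + (-x^(2:ℕ) + x^(3:ℕ)*y^(2:ℕ)) * b 3,
  (x^(2:ℕ)*y^(2:ℕ)) * b 3 + (-x^(2:ℕ)*y^(2:ℕ) + x^(3:ℕ)*y^(2:ℕ)) * b 4,
  (x*y) * b 2 + (-x*y + x^(3:ℕ)*y) * b 3 + (-x^(3:ℕ)*y + x^(3:ℕ)*y^(2:ℕ)) * b 4,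
  b 1 + (-1 - y + x + x*y) * b 2 + (y - x - x*y - x^(2:ℕ)*y + x^(2:ℕ)*y^(2:ℕ) + x^(3:ℕ)*y) * b 3 + (x^(2:ℕ)*y - x^(2:ℕ)*y^(2:ℕ) - x^(3:ℕ)*y + x^(3:ℕ)*y^(2:ℕ)) * b 4,
  (x^(2:ℕ)*y^(2:ℕ)) * b 3 + (-x^(2:ℕ)*y^(2:ℕ) + x^(3:ℕ)*y^(2:ℕ)) * b 4,
  (y) * b 2 + (-y - x*y^(2:ℕ) + x^(2:ℕ)*y + x^(2:ℕ)*y^(2:ℕ)) * b 3 + (x*y^(2:ℕ) - x^(2:ℕ)*y - x^(2:ℕ)*y^(2:ℕ) + x^(3:ℕ)*y^(2:ℕ)) * b 4,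
  (x^(2:ℕ)*y^(2:ℕ)) * b 3 + (-x^(2:ℕ)*y^(2:ℕ) + x^(3:ℕ)*y^(2:ℕ)) * b 4]

/-- values -/
def V7 (x y : ℚ) (b : Fin 5 → ℚ) : Fin 24 → ℚ := ![
  (x^(3:ℕ)*y^(3:ℕ)) * b 1,
  (x^(3:ℕ)*y^(3:ℕ)) * b 2,
  (x^(3:ℕ)*y^(3:ℕ)) * b 3,
  (x^(2:ℕ)*y^(2:ℕ)) * b 1 + (-x^(2:ℕ)*y^(2:ℕ) + x^(3:ℕ)*y^(2:ℕ)) * b 2 + (-x^(3:ℕ)*y^(2:ℕ) + x^(3:ℕ)*y^(3:ℕ)) * b 3,
  (x^(2:ℕ)*y^(3:ℕ)) * b 2 + (-x^(2:ℕ)*y^(3:ℕ) + x^(3:ℕ)*y^(3:ℕ)) * b 3,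
  (x^(2:ℕ)*y^(2:ℕ)) * b 1 + (-x^(2:ℕ)*y^(2:ℕ) + x^(3:ℕ)*y^(2:ℕ)) * b 2 + (-x^(3:ℕ)*y^(2:ℕ) + x^(3:ℕ)*y^(3:ℕ)) * b 3,
  (x^(3:ℕ)*y^(3:ℕ)) * b 3,
  (x^(2:ℕ)*y^(3:ℕ)) * b 2 + (-x^(2:ℕ)*y^(3:ℕ) + x^(3:ℕ)*y^(3:ℕ)) * b 3,
  (x^(3:ℕ)*y^(3:ℕ)) * b 3,
  b 0 + (-1 - x*y + x^(2:ℕ) + x^(2:ℕ)*y) * b 1 + (x*y - x^(2:ℕ) - 2*x^(2:ℕ)*y + x^(3:ℕ)*y + x^(2:ℕ)*y^(3:ℕ)) * b 2 + (x^(2:ℕ)*y - x^(3:ℕ)*y - x^(2:ℕ)*y^(3:ℕ) + x^(3:ℕ)*y^(3:ℕ)) * b 3,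
  (x^(2:ℕ)*y) * b 1 + (-x^(2:ℕ)*y + x^(3:ℕ)*y) * b 2 + (-x^(3:ℕ)*y + x^(3:ℕ)*y^(3:ℕ)) * b 3,
  (x*y^(2:ℕ)) * b 1 + (-x*y^(2:ℕ) - x*y^(3:ℕ) + x^(2:ℕ)*y^(2:ℕ) + x^(2:ℕ)*y^(3:ℕ)) * b 2 + (x*y^(3:ℕ) - x^(2:ℕ)*y^(2:ℕ) - x^(2:ℕ)*y^(3:ℕ) + x^(3:ℕ)*y^(3:ℕ)) * b 3,
  (x^(3:ℕ)*y^(3:ℕ)) * b 3,
  (x^(3:ℕ)*y^(3:ℕ)) * b 3,
  (x^(3:ℕ)*y^(3:ℕ)) * b 4,
  (x*y) * b 1 + (-x*y + x^(2:ℕ)*y) * b 2 + (-x^(2:ℕ)*y + x^(3:ℕ)*y^(3:ℕ)) * b 3,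
  (x*y^(2:ℕ)) * b 2 + (-x*y^(2:ℕ) + x^(3:ℕ)*y^(2:ℕ)) * b 3 + (-x^(3:ℕ)*y^(2:ℕ) + x^(3:ℕ)*y^(3:ℕ)) * b 4,
  (x*y) * b 1 + (-x*y + x^(2:ℕ)*y) * b 2 + (-x^(2:ℕ)*y + x^(3:ℕ)*y^(3:ℕ)) * b 3,
  (x^(2:ℕ)*y^(3:ℕ)) * b 3 + (-x^(2:ℕ)*y^(3:ℕ) + x^(3:ℕ)*y^(3:ℕ)) * b 4,
  (x*y^(2:ℕ)) * b 2 + (-x*y^(2:ℕ) + x^(3:ℕ)*y^(2:ℕ)) * b 3 + (-x^(3:ℕ)*y^(2:ℕ) + x^(3:ℕ)*y^(3:ℕ)) * b 4,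
  (x^(2:ℕ)*y^(3:ℕ)) * b 3 + (-x^(2:ℕ)*y^(3:ℕ) + x^(3:ℕ)*y^(3:ℕ)) * b 4,
  b 1 + (-1 - y + x + x*y) * b 2 + (y - x - x*y - x^(2:ℕ)*y + x^(3:ℕ)*y + x^(2:ℕ)*y^(3:ℕ)) * b 3 + (x^(2:ℕ)*y - x^(3:ℕ)*y - x^(2:ℕ)*y^(3:ℕ) + x^(3:ℕ)*y^(3:ℕ)) * b 4,
  (y^(2:ℕ)) * b 2 + (-y^(2:ℕ) - x*y^(3:ℕ) + x^(2:ℕ)*y^(2:ℕ) + x^(2:ℕ)*y^(3:ℕ)) * b 3 + (x*y^(3:ℕ) - x^(2:ℕ)*y^(2:ℕ) - x^(2:ℕ)*y^(3:ℕ) + x^(3:ℕ)*y^(3:ℕ)) * b 4,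
  (x^(2:ℕ)*y^(3:ℕ)) * b 3 + (-x^(2:ℕ)*y^(3:ℕ) + x^(3:ℕ)*y^(3:ℕ)) * b 4]

/-- values -/
def V8 (x y : ℚ) (b : Fin 5 → ℚ) : Fin 24 → ℚ := ![
  (x^(4:ℕ)*y^(3:ℕ)) * b 1,
  (x^(4:ℕ)*y^(3:ℕ)) * b 3,
  (x^(3:ℕ)*y^(3:ℕ)) * b 2 + (-x^(3:ℕ)*y^(3:ℕ) + x^(4:ℕ)*y^(3:ℕ)) * b 3,
  (x^(3:ℕ)*y^(3:ℕ)) * b 2 + (-x^(3:ℕ)*y^(3:ℕ) + x^(4:ℕ)*y^(3:ℕ)) * b 3,
  (x^(2:ℕ)*y^(2:ℕ)) * b 1 + (-x^(2:ℕ)*y^(2:ℕ) - x^(2:ℕ)*y^(3:ℕ) + x^(3:ℕ)*y^(2:ℕ) + x^(3:ℕ)*y^(3:ℕ)) * b 2 + (x^(2:ℕ)*y^(3:ℕ) - x^(3:ℕ)*y^(2:ℕ) - x^(3:ℕ)*y^(3:ℕ) + x^(4:ℕ)*y^(3:ℕ)) * b 3,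
  (x^(3:ℕ)*y^(3:ℕ)) * b 2 + (-x^(3:ℕ)*y^(3:ℕ) + x^(4:ℕ)*y^(3:ℕ)) * b 3,
  (x^(4:ℕ)*y^(3:ℕ)) * b 3,
  (x^(2:ℕ)*y^(2:ℕ)) * b 1 + (-x^(2:ℕ)*y^(2:ℕ) - x^(2:ℕ)*y^(3:ℕ) + x^(3:ℕ)*y^(2:ℕ) + x^(3:ℕ)*y^(3:ℕ)) * b 2 + (x^(2:ℕ)*y^(3:ℕ) - x^(3:ℕ)*y^(2:ℕ) - x^(3:ℕ)*y^(3:ℕ) + x^(4:ℕ)*y^(3:ℕ)) * b 3,
  (x^(4:ℕ)*y^(3:ℕ)) * b 3,
  (x^(2:ℕ)*y^(2:ℕ)) * b 1 + (-x^(2:ℕ)*y^(2:ℕ) - x^(2:ℕ)*y^(3:ℕ) + x^(3:ℕ)*y^(2:ℕ) + x^(3:ℕ)*y^(3:ℕ)) * b 2 + (x^(2:ℕ)*y^(3:ℕ) - x^(3:ℕ)*y^(2:ℕ) - x^(3:ℕ)*y^(3:ℕ) + x^(4:ℕ)*y^(3:ℕ)) * b 3,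
  (x^(4:ℕ)*y^(3:ℕ)) * b 3,
  b 0 + (-1 - x*y + x^(2:ℕ) - x*y^(2:ℕ) + x^(2:ℕ)*y + x^(2:ℕ)*y^(2:ℕ)) * b 1 + (x*y - x^(2:ℕ) + x*y^(2:ℕ) - 2*x^(2:ℕ)*y + x*y^(3:ℕ) - 2*x^(2:ℕ)*y^(2:ℕ) + x^(3:ℕ)*y - x^(2:ℕ)*y^(3:ℕ) + x^(3:ℕ)*y^(2:ℕ) + x^(3:ℕ)*y^(3:ℕ)) * b 2 + (x^(2:ℕ)*y - x*y^(3:ℕ) + x^(2:ℕ)*y^(2:ℕ) - x^(3:ℕ)*y + x^(2:ℕ)*y^(3:ℕ) - x^(3:ℕ)*y^(2:ℕ) - x^(3:ℕ)*y^(3:ℕ) + x^(4:ℕ)*y^(3:ℕ)) * b 3,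
  (x^(2:ℕ)*y) * b 1 + (-x^(2:ℕ)*y + x^(3:ℕ)*y) * b 2 + (-x^(3:ℕ)*y + x^(4:ℕ)*y^(3:ℕ)) * b 3,
  (x^(4:ℕ)*y^(3:ℕ)) * b 4,
  (x^(3:ℕ)*y^(3:ℕ)) * b 3 + (-x^(3:ℕ)*y^(3:ℕ) + x^(4:ℕ)*y^(3:ℕ)) * b 4,
  (x^(2:ℕ)*y) * b 1 + (-x^(2:ℕ)*y + x^(3:ℕ)*y) * b 2 + (-x^(3:ℕ)*y + x^(4:ℕ)*y^(3:ℕ)) * b 3,
  (x^(3:ℕ)*y^(3:ℕ)) * b 3 + (-x^(3:ℕ)*y^(3:ℕ) + x^(4:ℕ)*y^(3:ℕ)) * b 4,
  (x^(2:ℕ)*y) * b 1 + (-x^(2:ℕ)*y + x^(3:ℕ)*y) * b 2 + (-x^(3:ℕ)*y + x^(4:ℕ)*y^(3:ℕ)) * b 3,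
  (x*y^(2:ℕ)) * b 2 + (-x*y^(2:ℕ) - x^(2:ℕ)*y^(3:ℕ) + x^(3:ℕ)*y^(2:ℕ) + x^(3:ℕ)*y^(3:ℕ)) * b 3 + (x^(2:ℕ)*y^(3:ℕ) - x^(3:ℕ)*y^(2:ℕ) - x^(3:ℕ)*y^(3:ℕ) + x^(4:ℕ)*y^(3:ℕ)) * b 4,
  (x^(3:ℕ)*y^(3:ℕ)) * b 3 + (-x^(3:ℕ)*y^(3:ℕ) + x^(4:ℕ)*y^(3:ℕ)) * b 4,
  (x*y^(2:ℕ)) * b 2 + (-x*y^(2:ℕ) - x^(2:ℕ)*y^(3:ℕ) + x^(3:ℕ)*y^(2:ℕ) + x^(3:ℕ)*y^(3:ℕ)) * b 3 + (x^(2:ℕ)*y^(3:ℕ) - x^(3:ℕ)*y^(2:ℕ) - x^(3:ℕ)*y^(3:ℕ) + x^(4:ℕ)*y^(3:ℕ)) * b 4,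
  (x*y^(2:ℕ)) * b 2 + (-x*y^(2:ℕ) - x^(2:ℕ)*y^(3:ℕ) + x^(3:ℕ)*y^(2:ℕ) + x^(3:ℕ)*y^(3:ℕ)) * b 3 + (x^(2:ℕ)*y^(3:ℕ) - x^(3:ℕ)*y^(2:ℕ) - x^(3:ℕ)*y^(3:ℕ) + x^(4:ℕ)*y^(3:ℕ)) * b 4,
  b 1 + (-1 - y + x - y^(2:ℕ) + x*y + x*y^(2:ℕ)) * b 2 + (y - x + y^(2:ℕ) - x*y - x*y^(2:ℕ) - x^(2:ℕ)*y + x*y^(3:ℕ) - x^(2:ℕ)*y^(2:ℕ) + x^(3:ℕ)*y - x^(2:ℕ)*y^(3:ℕ) + x^(3:ℕ)*y^(2:ℕ) + x^(3:ℕ)*y^(3:ℕ)) * b 3 + (x^(2:ℕ)*y - x*y^(3:ℕ) + x^(2:ℕ)*y^(2:ℕ) - x^(3:ℕ)*y + x^(2:ℕ)*y^(3:ℕ) - x^(3:ℕ)*y^(2:ℕ) - x^(3:ℕ)*y^(3:ℕ) + x^(4:ℕ)*y^(3:ℕ)) * b 4,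
  (x^(3:ℕ)*y^(3:ℕ)) * b 3 + (-x^(3:ℕ)*y^(3:ℕ) + x^(4:ℕ)*y^(3:ℕ)) * b 4]

variable {q} {x y : ℚ} (h0 : (q 0 : ℚ) = x) (h1 : (q 1 : ℚ) = x) (h2 : (q 2 : ℚ) = y) (h3 : (q 3 : ℚ) = y)
  (b : Fin 5 → ℚ)

theorem base : (fun u => b (clsT u)) = V0 x y b := by
  funext s
  fin_cases s <;> rfl

include h0 in
theorem step1 : (tab hA).tau q 0 (V0 x y b) = V1 x y b := by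
  funext s
  fin_cases s
  · refine (tau_nonneg hA q (show ¬ vecT 0 0 < 0 by decide) _).trans ?_
    show (q 0 : ℚ) * (b 1) = (x) * b 1
    rw [h0]; try ring
  · refine (tau_neg hA q (show vecT 1 0 < 0 by decide) _).trans ?_
    show (b 0) + ((q 0 : ℚ) - 1) * (b 1) = b 0 + (-1 + x) * b 1
    rw [h0]; try ring
  · refine (tau_nonneg hA q (show ¬ vecT 2 0 < 0 by decide) _).trans ?_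
    show (q 0 : ℚ) * (b 1) = (x) * b 1
    rw [h0]; try ring
  · refine (tau_nonneg hA q (show ¬ vecT 3 0 < 0 by decide) _).trans ?_
    show (q 0 : ℚ) * (b 1) = (x) * b 1
    rw [h0]; try ring
  · refine (tau_nonneg hA q (show ¬ vecT 4 0 < 0 by decide) _).trans ?_
    show (q 0 : ℚ) * (b 2) = (x) * b 2
    rw [h0]; try ring
  · refine (tau_nonneg hA q (show ¬ vecT 5 0 < 0 by decide) _).trans ?_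
    show (q 0 : ℚ) * (b 1) = (x) * b 1
    rw [h0]; try ring
  · refine (tau_neg hA q (show vecT 6 0 < 0 by decide) _).trans ?_
    show (b 1) + ((q 0 : ℚ) - 1) * (b 2) = b 1 + (-1 + x) * b 2
    rw [h0]; try ring
  · refine (tau_nonneg hA q (show ¬ vecT 7 0 < 0 by decide) _).trans ?_
    show (q 0 : ℚ) * (b 2) = (x) * b 2
    rw [h0]; try ring
  · refine (tau_neg hA q (show vecT 8 0 < 0 by decide) _).trans ?_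
    show (b 1) + ((q 0 : ℚ) - 1) * (b 2) = b 1 + (-1 + x) * b 2
    rw [h0]; try ring
  · refine (tau_nonneg hA q (show ¬ vecT 9 0 < 0 by decide) _).trans ?_
    show (q 0 : ℚ) * (b 2) = (x) * b 2
    rw [h0]; try ring
  · refine (tau_neg hA q (show vecT 10 0 < 0 by decide) _).trans ?_
    show (b 1) + ((q 0 : ℚ) - 1) * (b 2) = b 1 + (-1 + x) * b 2
    rw [h0]; try ring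
  · refine (tau_nonneg hA q (show ¬ vecT 11 0 < 0 by decide) _).trans ?_
    show (q 0 : ℚ) * (b 3) = (x) * b 3
    rw [h0]; try ring
  · refine (tau_nonneg hA q (show ¬ vecT 12 0 < 0 by decide) _).trans ?_
    show (q 0 : ℚ) * (b 3) = (x) * b 3
    rw [h0]; try ring
  · refine (tau_neg hA q (show vecT 13 0 < 0 by decide) _).trans ?_
    show (b 1) + ((q 0 : ℚ) - 1) * (b 3) = b 1 + (-1 + x) * b 3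
    rw [h0]; try ring
  · refine (tau_neg hA q (show vecT 14 0 < 0 by decide) _).trans ?_
    show (b 2) + ((q 0 : ℚ) - 1) * (b 3) = b 2 + (-1 + x) * b 3
    rw [h0]; try ring
  · refine (tau_nonneg hA q (show ¬ vecT 15 0 < 0 by decide) _).trans ?_
    show (q 0 : ℚ) * (b 3) = (x) * b 3
    rw [h0]; try ring
  · refine (tau_neg hA q (show vecT 16 0 < 0 by decide) _).trans ?_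
    show (b 2) + ((q 0 : ℚ) - 1) * (b 3) = b 2 + (-1 + x) * b 3
    rw [h0]; try ring
  · refine (tau_nonneg hA q (show ¬ vecT 17 0 < 0 by decide) _).trans ?_
    show (q 0 : ℚ) * (b 3) = (x) * b 3
    rw [h0]; try ring
  · refine (tau_nonneg hA q (show ¬ vecT 18 0 < 0 by decide) _).trans ?_
    show (q 0 : ℚ) * (b 3) = (x) * b 3
    rw [h0]; try ring
  · refine (tau_neg hA q (show vecT 19 0 < 0 by decide) _).trans ?_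
    show (b 2) + ((q 0 : ℚ) - 1) * (b 3) = b 2 + (-1 + x) * b 3
    rw [h0]; try ring
  · refine (tau_nonneg hA q (show ¬ vecT 20 0 < 0 by decide) _).trans ?_
    show (q 0 : ℚ) * (b 3) = (x) * b 3
    rw [h0]; try ring
  · refine (tau_nonneg hA q (show ¬ vecT 21 0 < 0 by decide) _).trans ?_
    show (q 0 : ℚ) * (b 3) = (x) * b 3
    rw [h0]; try ring
  · refine (tau_nonneg hA q (show ¬ vecT 22 0 < 0 by decide) _).trans ?_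
    show (q 0 : ℚ) * (b 4) = (x) * b 4
    rw [h0]; try ring
  · refine (tau_neg hA q (show vecT 23 0 < 0 by decide) _).trans ?_
    show (b 3) + ((q 0 : ℚ) - 1) * (b 4) = b 3 + (-1 + x) * b 4
    rw [h0]; try ring

include h1 in
theorem step2 : (tab hA).tau q 1 (V1 x y b) = V2 x y b := by
  funext s
  fin_cases s
  · refine (tau_nonneg hA q (show ¬ vecT 0 1 < 0 by decide) _).trans ?_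
    show (q 1 : ℚ) * ((x) * b 1) = (x^(2:ℕ)) * b 1
    rw [h1]; try ring
  · refine (tau_nonneg hA q (show ¬ vecT 1 1 < 0 by decide) _).trans ?_
    show (q 1 : ℚ) * ((x) * b 1) = (x^(2:ℕ)) * b 1
    rw [h1]; try ring
  · refine (tau_neg hA q (show vecT 2 1 < 0 by decide) _).trans ?_
    show (b 0 + (-1 + x) * b 1) + ((q 1 : ℚ) - 1) * ((x) * b 1) = b 0 + (-1 + x^(2:ℕ)) * b 1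
    rw [h1]; try ring
  · refine (tau_nonneg hA q (show ¬ vecT 3 1 < 0 by decide) _).trans ?_
    show (q 1 : ℚ) * ((x) * b 2) = (x^(2:ℕ)) * b 2
    rw [h1]; try ring
  · refine (tau_neg hA q (show vecT 4 1 < 0 by decide) _).trans ?_
    show ((x) * b 1) + ((q 1 : ℚ) - 1) * ((x) * b 2) = (x) * b 1 + (-x + x^(2:ℕ)) * b 2
    rw [h1]; try ring
  · refine (tau_nonneg hA q (show ¬ vecT 5 1 < 0 by decide) _).trans ?_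
    show (q 1 : ℚ) * ((x) * b 2) = (x^(2:ℕ)) * b 2
    rw [h1]; try ring
  · refine (tau_nonneg hA q (show ¬ vecT 6 1 < 0 by decide) _).trans ?_
    show (q 1 : ℚ) * (b 1 + (-1 + x) * b 2) = (x) * b 1 + (-x + x^(2:ℕ)) * b 2
    rw [h1]; try ring
  · refine (tau_neg hA q (show vecT 7 1 < 0 by decide) _).trans ?_
    show ((x) * b 1) + ((q 1 : ℚ) - 1) * ((x) * b 2) = (x) * b 1 + (-x + x^(2:ℕ)) * b 2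
    rw [h1]; try ring
  · refine (tau_nonneg hA q (show ¬ vecT 8 1 < 0 by decide) _).trans ?_
    show (q 1 : ℚ) * (b 1 + (-1 + x) * b 2) = (x) * b 1 + (-x + x^(2:ℕ)) * b 2
    rw [h1]; try ring
  · refine (tau_nonneg hA q (show ¬ vecT 9 1 < 0 by decide) _).trans ?_
    show (q 1 : ℚ) * ((x) * b 3) = (x^(2:ℕ)) * b 3
    rw [h1]; try ring
  · refine (tau_nonneg hA q (show ¬ vecT 10 1 < 0 by decide) _).trans ?_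
    show (q 1 : ℚ) * ((x) * b 3) = (x^(2:ℕ)) * b 3
    rw [h1]; try ring
  · refine (tau_neg hA q (show vecT 11 1 < 0 by decide) _).trans ?_
    show ((x) * b 2) + ((q 1 : ℚ) - 1) * ((x) * b 3) = (x) * b 2 + (-x + x^(2:ℕ)) * b 3
    rw [h1]; try ring
  · refine (tau_neg hA q (show vecT 12 1 < 0 by decide) _).trans ?_
    show (b 1 + (-1 + x) * b 2) + ((q 1 : ℚ) - 1) * ((x) * b 3) = b 1 + (-1 + x) * b 2 + (-x + x^(2:ℕ)) * b 3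
    rw [h1]; try ring
  · refine (tau_nonneg hA q (show ¬ vecT 13 1 < 0 by decide) _).trans ?_
    show (q 1 : ℚ) * (b 2 + (-1 + x) * b 3) = (x) * b 2 + (-x + x^(2:ℕ)) * b 3
    rw [h1]; try ring
  · refine (tau_neg hA q (show vecT 14 1 < 0 by decide) _).trans ?_
    show (b 1 + (-1 + x) * b 3) + ((q 1 : ℚ) - 1) * (b 2 + (-1 + x) * b 3) = b 1 + (-1 + x) * b 2 + (-x + x^(2:ℕ)) * b 3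
    rw [h1]; try ring
  · refine (tau_nonneg hA q (show ¬ vecT 15 1 < 0 by decide) _).trans ?_
    show (q 1 : ℚ) * ((x) * b 3) = (x^(2:ℕ)) * b 3
    rw [h1]; try ring
  · refine (tau_nonneg hA q (show ¬ vecT 16 1 < 0 by decide) _).trans ?_
    show (q 1 : ℚ) * ((x) * b 3) = (x^(2:ℕ)) * b 3
    rw [h1]; try ring
  · refine (tau_nonneg hA q (show ¬ vecT 17 1 < 0 by decide) _).trans ?_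
    show (q 1 : ℚ) * ((x) * b 3) = (x^(2:ℕ)) * b 3
    rw [h1]; try ring
  · refine (tau_neg hA q (show vecT 18 1 < 0 by decide) _).trans ?_
    show (b 2 + (-1 + x) * b 3) + ((q 1 : ℚ) - 1) * ((x) * b 3) = b 2 + (-1 + x^(2:ℕ)) * b 3
    rw [h1]; try ring
  · refine (tau_nonneg hA q (show ¬ vecT 19 1 < 0 by decide) _).trans ?_
    show (q 1 : ℚ) * ((x) * b 3) = (x^(2:ℕ)) * b 3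
    rw [h1]; try ring
  · refine (tau_neg hA q (show vecT 20 1 < 0 by decide) _).trans ?_
    show (b 2 + (-1 + x) * b 3) + ((q 1 : ℚ) - 1) * ((x) * b 3) = b 2 + (-1 + x^(2:ℕ)) * b 3
    rw [h1]; try ring
  · refine (tau_nonneg hA q (show ¬ vecT 21 1 < 0 by decide) _).trans ?_
    show (q 1 : ℚ) * ((x) * b 4) = (x^(2:ℕ)) * b 4
    rw [h1]; try ring
  · refine (tau_neg hA q (show vecT 22 1 < 0 by decide) _).trans ?_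
    show ((x) * b 3) + ((q 1 : ℚ) - 1) * ((x) * b 4) = (x) * b 3 + (-x + x^(2:ℕ)) * b 4
    rw [h1]; try ring
  · refine (tau_nonneg hA q (show ¬ vecT 23 1 < 0 by decide) _).trans ?_
    show (q 1 : ℚ) * (b 3 + (-1 + x) * b 4) = (x) * b 3 + (-x + x^(2:ℕ)) * b 4
    rw [h1]; try ring

include h2 in
theorem step3 : (tab hA).tau q 2 (V2 x y b) = V3 x y b := by
  funext s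
  fin_cases s
  · refine (tau_nonneg hA q (show ¬ vecT 0 2 < 0 by decide) _).trans ?_
    show (q 2 : ℚ) * ((x^(2:ℕ)) * b 1) = (x^(2:ℕ)*y) * b 1
    rw [h2]; try ring
  · refine (tau_nonneg hA q (show ¬ vecT 1 2 < 0 by decide) _).trans ?_
    show (q 2 : ℚ) * ((x^(2:ℕ)) * b 1) = (x^(2:ℕ)*y) * b 1
    rw [h2]; try ring
  · refine (tau_nonneg hA q (show ¬ vecT 2 2 < 0 by decide) _).trans ?_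
    show (q 2 : ℚ) * ((x^(2:ℕ)) * b 2) = (x^(2:ℕ)*y) * b 2
    rw [h2]; try ring
  · refine (tau_neg hA q (show vecT 3 2 < 0 by decide) _).trans ?_
    show (b 0 + (-1 + x^(2:ℕ)) * b 1) + ((q 2 : ℚ) - 1) * ((x^(2:ℕ)) * b 2) = b 0 + (-1 + x^(2:ℕ)) * b 1 + (-x^(2:ℕ) + x^(2:ℕ)*y) * b 2
    rw [h2]; try ring
  · refine (tau_nonneg hA q (show ¬ vecT 4 2 < 0 by decide) _).trans ?_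
    show (q 2 : ℚ) * ((x) * b 1 + (-x + x^(2:ℕ)) * b 2) = (x*y) * b 1 + (-x*y + x^(2:ℕ)*y) * b 2
    rw [h2]; try ring
  · refine (tau_nonneg hA q (show ¬ vecT 5 2 < 0 by decide) _).trans ?_
    show (q 2 : ℚ) * ((x^(2:ℕ)) * b 2) = (x^(2:ℕ)*y) * b 2
    rw [h2]; try ring
  · refine (tau_nonneg hA q (show ¬ vecT 6 2 < 0 by decide) _).trans ?_
    show (q 2 : ℚ) * ((x) * b 1 + (-x + x^(2:ℕ)) * b 2) = (x*y) * b 1 + (-x*y + x^(2:ℕ)*y) * b 2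
    rw [h2]; try ring
  · refine (tau_nonneg hA q (show ¬ vecT 7 2 < 0 by decide) _).trans ?_
    show (q 2 : ℚ) * ((x^(2:ℕ)) * b 3) = (x^(2:ℕ)*y) * b 3
    rw [h2]; try ring
  · refine (tau_nonneg hA q (show ¬ vecT 8 2 < 0 by decide) _).trans ?_
    show (q 2 : ℚ) * ((x^(2:ℕ)) * b 3) = (x^(2:ℕ)*y) * b 3
    rw [h2]; try ring
  · refine (tau_neg hA q (show vecT 9 2 < 0 by decide) _).trans ?_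
    show ((x) * b 1 + (-x + x^(2:ℕ)) * b 2) + ((q 2 : ℚ) - 1) * ((x^(2:ℕ)) * b 3) = (x) * b 1 + (-x + x^(2:ℕ)) * b 2 + (-x^(2:ℕ) + x^(2:ℕ)*y) * b 3
    rw [h2]; try ring
  · refine (tau_neg hA q (show vecT 10 2 < 0 by decide) _).trans ?_
    show ((x) * b 1 + (-x + x^(2:ℕ)) * b 2) + ((q 2 : ℚ) - 1) * ((x^(2:ℕ)) * b 3) = (x) * b 1 + (-x + x^(2:ℕ)) * b 2 + (-x^(2:ℕ) + x^(2:ℕ)*y) * b 3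
    rw [h2]; try ring
  · refine (tau_nonneg hA q (show ¬ vecT 11 2 < 0 by decide) _).trans ?_
    show (q 2 : ℚ) * ((x) * b 2 + (-x + x^(2:ℕ)) * b 3) = (x*y) * b 2 + (-x*y + x^(2:ℕ)*y) * b 3
    rw [h2]; try ring
  · refine (tau_nonneg hA q (show ¬ vecT 12 2 < 0 by decide) _).trans ?_
    show (q 2 : ℚ) * ((x^(2:ℕ)) * b 3) = (x^(2:ℕ)*y) * b 3
    rw [h2]; try ring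
  · refine (tau_nonneg hA q (show ¬ vecT 13 2 < 0 by decide) _).trans ?_
    show (q 2 : ℚ) * ((x) * b 2 + (-x + x^(2:ℕ)) * b 3) = (x*y) * b 2 + (-x*y + x^(2:ℕ)*y) * b 3
    rw [h2]; try ring
  · refine (tau_nonneg hA q (show ¬ vecT 14 2 < 0 by decide) _).trans ?_
    show (q 2 : ℚ) * ((x^(2:ℕ)) * b 3) = (x^(2:ℕ)*y) * b 3
    rw [h2]; try ring
  · refine (tau_neg hA q (show vecT 15 2 < 0 by decide) _).trans ?_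
    show (b 1 + (-1 + x) * b 2 + (-x + x^(2:ℕ)) * b 3) + ((q 2 : ℚ) - 1) * ((x^(2:ℕ)) * b 3) = b 1 + (-1 + x) * b 2 + (-x + x^(2:ℕ)*y) * b 3
    rw [h2]; try ring
  · refine (tau_neg hA q (show vecT 16 2 < 0 by decide) _).trans ?_
    show (b 1 + (-1 + x) * b 2 + (-x + x^(2:ℕ)) * b 3) + ((q 2 : ℚ) - 1) * ((x^(2:ℕ)) * b 3) = b 1 + (-1 + x) * b 2 + (-x + x^(2:ℕ)*y) * b 3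
    rw [h2]; try ring
  · refine (tau_nonneg hA q (show ¬ vecT 17 2 < 0 by decide) _).trans ?_
    show (q 2 : ℚ) * ((x^(2:ℕ)) * b 3) = (x^(2:ℕ)*y) * b 3
    rw [h2]; try ring
  · refine (tau_nonneg hA q (show ¬ vecT 18 2 < 0 by decide) _).trans ?_
    show (q 2 : ℚ) * (b 2 + (-1 + x^(2:ℕ)) * b 3) = (y) * b 2 + (-y + x^(2:ℕ)*y) * b 3
    rw [h2]; try ring
  · refine (tau_nonneg hA q (show ¬ vecT 19 2 < 0 by decide) _).trans ?_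
    show (q 2 : ℚ) * ((x^(2:ℕ)) * b 3) = (x^(2:ℕ)*y) * b 3
    rw [h2]; try ring
  · refine (tau_nonneg hA q (show ¬ vecT 20 2 < 0 by decide) _).trans ?_
    show (q 2 : ℚ) * ((x^(2:ℕ)) * b 4) = (x^(2:ℕ)*y) * b 4
    rw [h2]; try ring
  · refine (tau_neg hA q (show vecT 21 2 < 0 by decide) _).trans ?_
    show (b 2 + (-1 + x^(2:ℕ)) * b 3) + ((q 2 : ℚ) - 1) * ((x^(2:ℕ)) * b 4) = b 2 + (-1 + x^(2:ℕ)) * b 3 + (-x^(2:ℕ) + x^(2:ℕ)*y) * b 4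
    rw [h2]; try ring
  · refine (tau_nonneg hA q (show ¬ vecT 22 2 < 0 by decide) _).trans ?_
    show (q 2 : ℚ) * ((x) * b 3 + (-x + x^(2:ℕ)) * b 4) = (x*y) * b 3 + (-x*y + x^(2:ℕ)*y) * b 4
    rw [h2]; try ring
  · refine (tau_nonneg hA q (show ¬ vecT 23 2 < 0 by decide) _).trans ?_
    show (q 2 : ℚ) * ((x) * b 3 + (-x + x^(2:ℕ)) * b 4) = (x*y) * b 3 + (-x*y + x^(2:ℕ)*y) * b 4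
    rw [h2]; try ring

include h1 in
theorem step4 : (tab hA).tau q 1 (V3 x y b) = V4 x y b := by
  funext s
  fin_cases s
  · refine (tau_nonneg hA q (show ¬ vecT 0 1 < 0 by decide) _).trans ?_
    show (q 1 : ℚ) * ((x^(2:ℕ)*y) * b 1) = (x^(3:ℕ)*y) * b 1
    rw [h1]; try ring
  · refine (tau_nonneg hA q (show ¬ vecT 1 1 < 0 by decide) _).trans ?_
    show (q 1 : ℚ) * ((x^(2:ℕ)*y) * b 2) = (x^(3:ℕ)*y) * b 2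
    rw [h1]; try ring
  · refine (tau_neg hA q (show vecT 2 1 < 0 by decide) _).trans ?_
    show ((x^(2:ℕ)*y) * b 1) + ((q 1 : ℚ) - 1) * ((x^(2:ℕ)*y) * b 2) = (x^(2:ℕ)*y) * b 1 + (-x^(2:ℕ)*y + x^(3:ℕ)*y) * b 2
    rw [h1]; try ring
  · refine (tau_nonneg hA q (show ¬ vecT 3 1 < 0 by decide) _).trans ?_
    show (q 1 : ℚ) * ((x*y) * b 1 + (-x*y + x^(2:ℕ)*y) * b 2) = (x^(2:ℕ)*y) * b 1 + (-x^(2:ℕ)*y + x^(3:ℕ)*y) * b 2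
    rw [h1]; try ring
  · refine (tau_neg hA q (show vecT 4 1 < 0 by decide) _).trans ?_
    show (b 0 + (-1 + x^(2:ℕ)) * b 1 + (-x^(2:ℕ) + x^(2:ℕ)*y) * b 2) + ((q 1 : ℚ) - 1) * ((x*y) * b 1 + (-x*y + x^(2:ℕ)*y) * b 2) = b 0 + (-1 - x*y + x^(2:ℕ) + x^(2:ℕ)*y) * b 1 + (x*y - x^(2:ℕ) - x^(2:ℕ)*y + x^(3:ℕ)*y) * b 2
    rw [h1]; try ring
  · refine (tau_nonneg hA q (show ¬ vecT 5 1 < 0 by decide) _).trans ?_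
    show (q 1 : ℚ) * ((x^(2:ℕ)*y) * b 3) = (x^(3:ℕ)*y) * b 3
    rw [h1]; try ring
  · refine (tau_nonneg hA q (show ¬ vecT 6 1 < 0 by decide) _).trans ?_
    show (q 1 : ℚ) * ((x*y) * b 1 + (-x*y + x^(2:ℕ)*y) * b 2) = (x^(2:ℕ)*y) * b 1 + (-x^(2:ℕ)*y + x^(3:ℕ)*y) * b 2
    rw [h1]; try ring
  · refine (tau_neg hA q (show vecT 7 1 < 0 by decide) _).trans ?_
    show ((x^(2:ℕ)*y) * b 2) + ((q 1 : ℚ) - 1) * ((x^(2:ℕ)*y) * b 3) = (x^(2:ℕ)*y) * b 2 + (-x^(2:ℕ)*y + x^(3:ℕ)*y) * b 3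
    rw [h1]; try ring
  · refine (tau_nonneg hA q (show ¬ vecT 8 1 < 0 by decide) _).trans ?_
    show (q 1 : ℚ) * ((x^(2:ℕ)*y) * b 3) = (x^(3:ℕ)*y) * b 3
    rw [h1]; try ring
  · refine (tau_nonneg hA q (show ¬ vecT 9 1 < 0 by decide) _).trans ?_
    show (q 1 : ℚ) * ((x*y) * b 2 + (-x*y + x^(2:ℕ)*y) * b 3) = (x^(2:ℕ)*y) * b 2 + (-x^(2:ℕ)*y + x^(3:ℕ)*y) * b 3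
    rw [h1]; try ring
  · refine (tau_nonneg hA q (show ¬ vecT 10 1 < 0 by decide) _).trans ?_
    show (q 1 : ℚ) * ((x^(2:ℕ)*y) * b 3) = (x^(3:ℕ)*y) * b 3
    rw [h1]; try ring
  · refine (tau_neg hA q (show vecT 11 1 < 0 by decide) _).trans ?_
    show ((x) * b 1 + (-x + x^(2:ℕ)) * b 2 + (-x^(2:ℕ) + x^(2:ℕ)*y) * b 3) + ((q 1 : ℚ) - 1) * ((x*y) * b 2 + (-x*y + x^(2:ℕ)*y) * b 3) = (x) * b 1 + (-x - x*y + x^(2:ℕ) + x^(2:ℕ)*y) * b 2 + (x*y - x^(2:ℕ) - x^(2:ℕ)*y + x^(3:ℕ)*y) * b 3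
    rw [h1]; try ring
  · refine (tau_neg hA q (show vecT 12 1 < 0 by decide) _).trans ?_
    show ((x) * b 1 + (-x + x^(2:ℕ)) * b 2 + (-x^(2:ℕ) + x^(2:ℕ)*y) * b 3) + ((q 1 : ℚ) - 1) * ((x^(2:ℕ)*y) * b 3) = (x) * b 1 + (-x + x^(2:ℕ)) * b 2 + (-x^(2:ℕ) + x^(3:ℕ)*y) * b 3
    rw [h1]; try ring
  · refine (tau_nonneg hA q (show ¬ vecT 13 1 < 0 by decide) _).trans ?_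
    show (q 1 : ℚ) * ((x^(2:ℕ)*y) * b 3) = (x^(3:ℕ)*y) * b 3
    rw [h1]; try ring
  · refine (tau_neg hA q (show vecT 14 1 < 0 by decide) _).trans ?_
    show ((x*y) * b 2 + (-x*y + x^(2:ℕ)*y) * b 3) + ((q 1 : ℚ) - 1) * ((x^(2:ℕ)*y) * b 3) = (x*y) * b 2 + (-x*y + x^(3:ℕ)*y) * b 3
    rw [h1]; try ring
  · refine (tau_nonneg hA q (show ¬ vecT 15 1 < 0 by decide) _).trans ?_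
    show (q 1 : ℚ) * (b 1 + (-1 + x) * b 2 + (-x + x^(2:ℕ)*y) * b 3) = (x) * b 1 + (-x + x^(2:ℕ)) * b 2 + (-x^(2:ℕ) + x^(3:ℕ)*y) * b 3
    rw [h1]; try ring
  · refine (tau_nonneg hA q (show ¬ vecT 16 1 < 0 by decide) _).trans ?_
    show (q 1 : ℚ) * ((y) * b 2 + (-y + x^(2:ℕ)*y) * b 3) = (x*y) * b 2 + (-x*y + x^(3:ℕ)*y) * b 3
    rw [h1]; try ring
  · refine (tau_nonneg hA q (show ¬ vecT 17 1 < 0 by decide) _).trans ?_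
    show (q 1 : ℚ) * ((x^(2:ℕ)*y) * b 3) = (x^(3:ℕ)*y) * b 3
    rw [h1]; try ring
  · refine (tau_neg hA q (show vecT 18 1 < 0 by decide) _).trans ?_
    show (b 1 + (-1 + x) * b 2 + (-x + x^(2:ℕ)*y) * b 3) + ((q 1 : ℚ) - 1) * ((y) * b 2 + (-y + x^(2:ℕ)*y) * b 3) = b 1 + (-1 - y + x + x*y) * b 2 + (y - x - x*y + x^(3:ℕ)*y) * b 3
    rw [h1]; try ring
  · refine (tau_nonneg hA q (show ¬ vecT 19 1 < 0 by decide) _).trans ?_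
    show (q 1 : ℚ) * ((x^(2:ℕ)*y) * b 4) = (x^(3:ℕ)*y) * b 4
    rw [h1]; try ring
  · refine (tau_neg hA q (show vecT 20 1 < 0 by decide) _).trans ?_
    show ((x^(2:ℕ)*y) * b 3) + ((q 1 : ℚ) - 1) * ((x^(2:ℕ)*y) * b 4) = (x^(2:ℕ)*y) * b 3 + (-x^(2:ℕ)*y + x^(3:ℕ)*y) * b 4
    rw [h1]; try ring
  · refine (tau_nonneg hA q (show ¬ vecT 21 1 < 0 by decide) _).trans ?_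
    show (q 1 : ℚ) * ((x*y) * b 3 + (-x*y + x^(2:ℕ)*y) * b 4) = (x^(2:ℕ)*y) * b 3 + (-x^(2:ℕ)*y + x^(3:ℕ)*y) * b 4
    rw [h1]; try ring
  · refine (tau_neg hA q (show vecT 22 1 < 0 by decide) _).trans ?_
    show (b 2 + (-1 + x^(2:ℕ)) * b 3 + (-x^(2:ℕ) + x^(2:ℕ)*y) * b 4) + ((q 1 : ℚ) - 1) * ((x*y) * b 3 + (-x*y + x^(2:ℕ)*y) * b 4) = b 2 + (-1 - x*y + x^(2:ℕ) + x^(2:ℕ)*y) * b 3 + (x*y - x^(2:ℕ) - x^(2:ℕ)*y + x^(3:ℕ)*y) * b 4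
    rw [h1]; try ring
  · refine (tau_nonneg hA q (show ¬ vecT 23 1 < 0 by decide) _).trans ?_
    show (q 1 : ℚ) * ((x*y) * b 3 + (-x*y + x^(2:ℕ)*y) * b 4) = (x^(2:ℕ)*y) * b 3 + (-x^(2:ℕ)*y + x^(3:ℕ)*y) * b 4
    rw [h1]; try ring

include h3 in
theorem step5 : (tab hA).tau q 3 (V3 x y b) = V5 x y b := by
  funext s
  fin_cases s
  · refine (tau_nonneg hA q (show ¬ vecT 0 3 < 0 by decide) _).trans ?_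
    show (q 3 : ℚ) * ((x^(2:ℕ)*y) * b 1) = (x^(2:ℕ)*y^(2:ℕ)) * b 1
    rw [h3]; try ring
  · refine (tau_nonneg hA q (show ¬ vecT 1 3 < 0 by decide) _).trans ?_
    show (q 3 : ℚ) * ((x^(2:ℕ)*y) * b 1) = (x^(2:ℕ)*y^(2:ℕ)) * b 1
    rw [h3]; try ring
  · refine (tau_nonneg hA q (show ¬ vecT 2 3 < 0 by decide) _).trans ?_
    show (q 3 : ℚ) * ((x^(2:ℕ)*y) * b 2) = (x^(2:ℕ)*y^(2:ℕ)) * b 2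
    rw [h3]; try ring
  · refine (tau_nonneg hA q (show ¬ vecT 3 3 < 0 by decide) _).trans ?_
    show (q 3 : ℚ) * ((x^(2:ℕ)*y) * b 2) = (x^(2:ℕ)*y^(2:ℕ)) * b 2
    rw [h3]; try ring
  · refine (tau_nonneg hA q (show ¬ vecT 4 3 < 0 by decide) _).trans ?_
    show (q 3 : ℚ) * ((x^(2:ℕ)*y) * b 3) = (x^(2:ℕ)*y^(2:ℕ)) * b 3
    rw [h3]; try ring
  · refine (tau_neg hA q (show vecT 5 3 < 0 by decide) _).trans ?_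
    show (b 0 + (-1 + x^(2:ℕ)) * b 1 + (-x^(2:ℕ) + x^(2:ℕ)*y) * b 2) + ((q 3 : ℚ) - 1) * ((x^(2:ℕ)*y) * b 2) = b 0 + (-1 + x^(2:ℕ)) * b 1 + (-x^(2:ℕ) + x^(2:ℕ)*y^(2:ℕ)) * b 2
    rw [h3]; try ring
  · refine (tau_nonneg hA q (show ¬ vecT 6 3 < 0 by decide) _).trans ?_
    show (q 3 : ℚ) * ((x^(2:ℕ)*y) * b 3) = (x^(2:ℕ)*y^(2:ℕ)) * b 3
    rw [h3]; try ring
  · refine (tau_neg hA q (show vecT 7 3 < 0 by decide) _).trans ?_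
    show ((x*y) * b 1 + (-x*y + x^(2:ℕ)*y) * b 2) + ((q 3 : ℚ) - 1) * ((x^(2:ℕ)*y) * b 3) = (x*y) * b 1 + (-x*y + x^(2:ℕ)*y) * b 2 + (-x^(2:ℕ)*y + x^(2:ℕ)*y^(2:ℕ)) * b 3
    rw [h3]; try ring
  · refine (tau_neg hA q (show vecT 8 3 < 0 by decide) _).trans ?_
    show ((x*y) * b 1 + (-x*y + x^(2:ℕ)*y) * b 2) + ((q 3 : ℚ) - 1) * ((x^(2:ℕ)*y) * b 3) = (x*y) * b 1 + (-x*y + x^(2:ℕ)*y) * b 2 + (-x^(2:ℕ)*y + x^(2:ℕ)*y^(2:ℕ)) * b 3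
    rw [h3]; try ring
  · refine (tau_nonneg hA q (show ¬ vecT 9 3 < 0 by decide) _).trans ?_
    show (q 3 : ℚ) * ((x) * b 1 + (-x + x^(2:ℕ)) * b 2 + (-x^(2:ℕ) + x^(2:ℕ)*y) * b 3) = (x*y) * b 1 + (-x*y + x^(2:ℕ)*y) * b 2 + (-x^(2:ℕ)*y + x^(2:ℕ)*y^(2:ℕ)) * b 3
    rw [h3]; try ring
  · refine (tau_nonneg hA q (show ¬ vecT 10 3 < 0 by decide) _).trans ?_
    show (q 3 : ℚ) * ((x) * b 1 + (-x + x^(2:ℕ)) * b 2 + (-x^(2:ℕ) + x^(2:ℕ)*y) * b 3) = (x*y) * b 1 + (-x*y + x^(2:ℕ)*y) * b 2 + (-x^(2:ℕ)*y + x^(2:ℕ)*y^(2:ℕ)) * b 3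
    rw [h3]; try ring
  · refine (tau_nonneg hA q (show ¬ vecT 11 3 < 0 by decide) _).trans ?_
    show (q 3 : ℚ) * ((x*y) * b 2 + (-x*y + x^(2:ℕ)*y) * b 3) = (x*y^(2:ℕ)) * b 2 + (-x*y^(2:ℕ) + x^(2:ℕ)*y^(2:ℕ)) * b 3
    rw [h3]; try ring
  · refine (tau_nonneg hA q (show ¬ vecT 12 3 < 0 by decide) _).trans ?_
    show (q 3 : ℚ) * ((x^(2:ℕ)*y) * b 3) = (x^(2:ℕ)*y^(2:ℕ)) * b 3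
    rw [h3]; try ring
  · refine (tau_nonneg hA q (show ¬ vecT 13 3 < 0 by decide) _).trans ?_
    show (q 3 : ℚ) * ((x*y) * b 2 + (-x*y + x^(2:ℕ)*y) * b 3) = (x*y^(2:ℕ)) * b 2 + (-x*y^(2:ℕ) + x^(2:ℕ)*y^(2:ℕ)) * b 3
    rw [h3]; try ring
  · refine (tau_nonneg hA q (show ¬ vecT 14 3 < 0 by decide) _).trans ?_
    show (q 3 : ℚ) * ((x^(2:ℕ)*y) * b 3) = (x^(2:ℕ)*y^(2:ℕ)) * b 3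
    rw [h3]; try ring
  · refine (tau_nonneg hA q (show ¬ vecT 15 3 < 0 by decide) _).trans ?_
    show (q 3 : ℚ) * ((x^(2:ℕ)*y) * b 3) = (x^(2:ℕ)*y^(2:ℕ)) * b 3
    rw [h3]; try ring
  · refine (tau_nonneg hA q (show ¬ vecT 16 3 < 0 by decide) _).trans ?_
    show (q 3 : ℚ) * ((x^(2:ℕ)*y) * b 3) = (x^(2:ℕ)*y^(2:ℕ)) * b 3
    rw [h3]; try ring
  · refine (tau_neg hA q (show vecT 17 3 < 0 by decide) _).trans ?_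
    show (b 1 + (-1 + x) * b 2 + (-x + x^(2:ℕ)*y) * b 3) + ((q 3 : ℚ) - 1) * ((x^(2:ℕ)*y) * b 3) = b 1 + (-1 + x) * b 2 + (-x + x^(2:ℕ)*y^(2:ℕ)) * b 3
    rw [h3]; try ring
  · refine (tau_nonneg hA q (show ¬ vecT 18 3 < 0 by decide) _).trans ?_
    show (q 3 : ℚ) * ((x^(2:ℕ)*y) * b 4) = (x^(2:ℕ)*y^(2:ℕ)) * b 4
    rw [h3]; try ring
  · refine (tau_neg hA q (show vecT 19 3 < 0 by decide) _).trans ?_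
    show (b 1 + (-1 + x) * b 2 + (-x + x^(2:ℕ)*y) * b 3) + ((q 3 : ℚ) - 1) * ((x^(2:ℕ)*y) * b 3) = b 1 + (-1 + x) * b 2 + (-x + x^(2:ℕ)*y^(2:ℕ)) * b 3
    rw [h3]; try ring
  · refine (tau_neg hA q (show vecT 20 3 < 0 by decide) _).trans ?_
    show ((y) * b 2 + (-y + x^(2:ℕ)*y) * b 3) + ((q 3 : ℚ) - 1) * ((x^(2:ℕ)*y) * b 4) = (y) * b 2 + (-y + x^(2:ℕ)*y) * b 3 + (-x^(2:ℕ)*y + x^(2:ℕ)*y^(2:ℕ)) * b 4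
    rw [h3]; try ring
  · refine (tau_nonneg hA q (show ¬ vecT 21 3 < 0 by decide) _).trans ?_
    show (q 3 : ℚ) * (b 2 + (-1 + x^(2:ℕ)) * b 3 + (-x^(2:ℕ) + x^(2:ℕ)*y) * b 4) = (y) * b 2 + (-y + x^(2:ℕ)*y) * b 3 + (-x^(2:ℕ)*y + x^(2:ℕ)*y^(2:ℕ)) * b 4
    rw [h3]; try ring
  · refine (tau_nonneg hA q (show ¬ vecT 22 3 < 0 by decide) _).trans ?_
    show (q 3 : ℚ) * ((x*y) * b 3 + (-x*y + x^(2:ℕ)*y) * b 4) = (x*y^(2:ℕ)) * b 3 + (-x*y^(2:ℕ) + x^(2:ℕ)*y^(2:ℕ)) * b 4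
    rw [h3]; try ring
  · refine (tau_nonneg hA q (show ¬ vecT 23 3 < 0 by decide) _).trans ?_
    show (q 3 : ℚ) * ((x*y) * b 3 + (-x*y + x^(2:ℕ)*y) * b 4) = (x*y^(2:ℕ)) * b 3 + (-x*y^(2:ℕ) + x^(2:ℕ)*y^(2:ℕ)) * b 4
    rw [h3]; try ring

include h3 in
theorem step6 : (tab hA).tau q 3 (V4 x y b) = V6 x y b := by
  funext s
  fin_cases s
  · refine (tau_nonneg hA q (show ¬ vecT 0 3 < 0 by decide) _).trans ?_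
    show (q 3 : ℚ) * ((x^(3:ℕ)*y) * b 1) = (x^(3:ℕ)*y^(2:ℕ)) * b 1
    rw [h3]; try ring
  · refine (tau_nonneg hA q (show ¬ vecT 1 3 < 0 by decide) _).trans ?_
    show (q 3 : ℚ) * ((x^(3:ℕ)*y) * b 2) = (x^(3:ℕ)*y^(2:ℕ)) * b 2
    rw [h3]; try ring
  · refine (tau_nonneg hA q (show ¬ vecT 2 3 < 0 by decide) _).trans ?_
    show (q 3 : ℚ) * ((x^(2:ℕ)*y) * b 1 + (-x^(2:ℕ)*y + x^(3:ℕ)*y) * b 2) = (x^(2:ℕ)*y^(2:ℕ)) * b 1 + (-x^(2:ℕ)*y^(2:ℕ) + x^(3:ℕ)*y^(2:ℕ)) * b 2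
    rw [h3]; try ring
  · refine (tau_nonneg hA q (show ¬ vecT 3 3 < 0 by decide) _).trans ?_
    show (q 3 : ℚ) * ((x^(3:ℕ)*y) * b 3) = (x^(3:ℕ)*y^(2:ℕ)) * b 3
    rw [h3]; try ring
  · refine (tau_nonneg hA q (show ¬ vecT 4 3 < 0 by decide) _).trans ?_
    show (q 3 : ℚ) * ((x^(2:ℕ)*y) * b 2 + (-x^(2:ℕ)*y + x^(3:ℕ)*y) * b 3) = (x^(2:ℕ)*y^(2:ℕ)) * b 2 + (-x^(2:ℕ)*y^(2:ℕ) + x^(3:ℕ)*y^(2:ℕ)) * b 3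
    rw [h3]; try ring
  · refine (tau_neg hA q (show vecT 5 3 < 0 by decide) _).trans ?_
    show ((x^(2:ℕ)*y) * b 1 + (-x^(2:ℕ)*y + x^(3:ℕ)*y) * b 2) + ((q 3 : ℚ) - 1) * ((x^(3:ℕ)*y) * b 3) = (x^(2:ℕ)*y) * b 1 + (-x^(2:ℕ)*y + x^(3:ℕ)*y) * b 2 + (-x^(3:ℕ)*y + x^(3:ℕ)*y^(2:ℕ)) * b 3
    rw [h3]; try ring
  · refine (tau_nonneg hA q (show ¬ vecT 6 3 < 0 by decide) _).trans ?_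
    show (q 3 : ℚ) * ((x^(3:ℕ)*y) * b 3) = (x^(3:ℕ)*y^(2:ℕ)) * b 3
    rw [h3]; try ring
  · refine (tau_neg hA q (show vecT 7 3 < 0 by decide) _).trans ?_
    show (b 0 + (-1 - x*y + x^(2:ℕ) + x^(2:ℕ)*y) * b 1 + (x*y - x^(2:ℕ) - x^(2:ℕ)*y + x^(3:ℕ)*y) * b 2) + ((q 3 : ℚ) - 1) * ((x^(2:ℕ)*y) * b 2 + (-x^(2:ℕ)*y + x^(3:ℕ)*y) * b 3) = b 0 + (-1 - x*y + x^(2:ℕ) + x^(2:ℕ)*y) * b 1 + (x*y - x^(2:ℕ) - 2*x^(2:ℕ)*y + x^(2:ℕ)*y^(2:ℕ) + x^(3:ℕ)*y) * b 2 + (x^(2:ℕ)*y - x^(2:ℕ)*y^(2:ℕ) - x^(3:ℕ)*y + x^(3:ℕ)*y^(2:ℕ)) * b 3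
    rw [h3]; try ring
  · refine (tau_neg hA q (show vecT 8 3 < 0 by decide) _).trans ?_
    show ((x^(2:ℕ)*y) * b 1 + (-x^(2:ℕ)*y + x^(3:ℕ)*y) * b 2) + ((q 3 : ℚ) - 1) * ((x^(3:ℕ)*y) * b 3) = (x^(2:ℕ)*y) * b 1 + (-x^(2:ℕ)*y + x^(3:ℕ)*y) * b 2 + (-x^(3:ℕ)*y + x^(3:ℕ)*y^(2:ℕ)) * b 3
    rw [h3]; try ring
  · refine (tau_nonneg hA q (show ¬ vecT 9 3 < 0 by decide) _).trans ?_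
    show (q 3 : ℚ) * ((x^(2:ℕ)*y) * b 2 + (-x^(2:ℕ)*y + x^(3:ℕ)*y) * b 3) = (x^(2:ℕ)*y^(2:ℕ)) * b 2 + (-x^(2:ℕ)*y^(2:ℕ) + x^(3:ℕ)*y^(2:ℕ)) * b 3
    rw [h3]; try ring
  · refine (tau_nonneg hA q (show ¬ vecT 10 3 < 0 by decide) _).trans ?_
    show (q 3 : ℚ) * ((x^(3:ℕ)*y) * b 3) = (x^(3:ℕ)*y^(2:ℕ)) * b 3
    rw [h3]; try ring
  · refine (tau_nonneg hA q (show ¬ vecT 11 3 < 0 by decide) _).trans ?_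
    show (q 3 : ℚ) * ((x) * b 1 + (-x - x*y + x^(2:ℕ) + x^(2:ℕ)*y) * b 2 + (x*y - x^(2:ℕ) - x^(2:ℕ)*y + x^(3:ℕ)*y) * b 3) = (x*y) * b 1 + (-x*y - x*y^(2:ℕ) + x^(2:ℕ)*y + x^(2:ℕ)*y^(2:ℕ)) * b 2 + (x*y^(2:ℕ) - x^(2:ℕ)*y - x^(2:ℕ)*y^(2:ℕ) + x^(3:ℕ)*y^(2:ℕ)) * b 3
    rw [h3]; try ring
  · refine (tau_nonneg hA q (show ¬ vecT 12 3 < 0 by decide) _).trans ?_
    show (q 3 : ℚ) * ((x) * b 1 + (-x + x^(2:ℕ)) * b 2 + (-x^(2:ℕ) + x^(3:ℕ)*y) * b 3) = (x*y) * b 1 + (-x*y + x^(2:ℕ)*y) * b 2 + (-x^(2:ℕ)*y + x^(3:ℕ)*y^(2:ℕ)) * b 3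
    rw [h3]; try ring
  · refine (tau_nonneg hA q (show ¬ vecT 13 3 < 0 by decide) _).trans ?_
    show (q 3 : ℚ) * ((x^(3:ℕ)*y) * b 3) = (x^(3:ℕ)*y^(2:ℕ)) * b 3
    rw [h3]; try ring
  · refine (tau_nonneg hA q (show ¬ vecT 14 3 < 0 by decide) _).trans ?_
    show (q 3 : ℚ) * ((x*y) * b 2 + (-x*y + x^(3:ℕ)*y) * b 3) = (x*y^(2:ℕ)) * b 2 + (-x*y^(2:ℕ) + x^(3:ℕ)*y^(2:ℕ)) * b 3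
    rw [h3]; try ring
  · refine (tau_nonneg hA q (show ¬ vecT 15 3 < 0 by decide) _).trans ?_
    show (q 3 : ℚ) * ((x^(3:ℕ)*y) * b 3) = (x^(3:ℕ)*y^(2:ℕ)) * b 3
    rw [h3]; try ring
  · refine (tau_nonneg hA q (show ¬ vecT 16 3 < 0 by decide) _).trans ?_
    show (q 3 : ℚ) * ((x^(3:ℕ)*y) * b 4) = (x^(3:ℕ)*y^(2:ℕ)) * b 4
    rw [h3]; try ring
  · refine (tau_neg hA q (show vecT 17 3 < 0 by decide) _).trans ?_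
    show ((x) * b 1 + (-x + x^(2:ℕ)) * b 2 + (-x^(2:ℕ) + x^(3:ℕ)*y) * b 3) + ((q 3 : ℚ) - 1) * ((x^(3:ℕ)*y) * b 3) = (x) * b 1 + (-x + x^(2:ℕ)) * b 2 + (-x^(2:ℕ) + x^(3:ℕ)*y^(2:ℕ)) * b 3
    rw [h3]; try ring
  · refine (tau_nonneg hA q (show ¬ vecT 18 3 < 0 by decide) _).trans ?_
    show (q 3 : ℚ) * ((x^(2:ℕ)*y) * b 3 + (-x^(2:ℕ)*y + x^(3:ℕ)*y) * b 4) = (x^(2:ℕ)*y^(2:ℕ)) * b 3 + (-x^(2:ℕ)*y^(2:ℕ) + x^(3:ℕ)*y^(2:ℕ)) * b 4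
    rw [h3]; try ring
  · refine (tau_neg hA q (show vecT 19 3 < 0 by decide) _).trans ?_
    show ((x*y) * b 2 + (-x*y + x^(3:ℕ)*y) * b 3) + ((q 3 : ℚ) - 1) * ((x^(3:ℕ)*y) * b 4) = (x*y) * b 2 + (-x*y + x^(3:ℕ)*y) * b 3 + (-x^(3:ℕ)*y + x^(3:ℕ)*y^(2:ℕ)) * b 4
    rw [h3]; try ring
  · refine (tau_neg hA q (show vecT 20 3 < 0 by decide) _).trans ?_
    show (b 1 + (-1 - y + x + x*y) * b 2 + (y - x - x*y + x^(3:ℕ)*y) * b 3) + ((q 3 : ℚ) - 1) * ((x^(2:ℕ)*y) * b 3 + (-x^(2:ℕ)*y + x^(3:ℕ)*y) * b 4) = b 1 + (-1 - y + x + x*y) * b 2 + (y - x - x*y - x^(2:ℕ)*y + x^(2:ℕ)*y^(2:ℕ) + x^(3:ℕ)*y) * b 3 + (x^(2:ℕ)*y - x^(2:ℕ)*y^(2:ℕ) - x^(3:ℕ)*y + x^(3:ℕ)*y^(2:ℕ)) * b 4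
    rw [h3]; try ring
  · refine (tau_nonneg hA q (show ¬ vecT 21 3 < 0 by decide) _).trans ?_
    show (q 3 : ℚ) * ((x^(2:ℕ)*y) * b 3 + (-x^(2:ℕ)*y + x^(3:ℕ)*y) * b 4) = (x^(2:ℕ)*y^(2:ℕ)) * b 3 + (-x^(2:ℕ)*y^(2:ℕ) + x^(3:ℕ)*y^(2:ℕ)) * b 4
    rw [h3]; try ring
  · refine (tau_nonneg hA q (show ¬ vecT 22 3 < 0 by decide) _).trans ?_
    show (q 3 : ℚ) * (b 2 + (-1 - x*y + x^(2:ℕ) + x^(2:ℕ)*y) * b 3 + (x*y - x^(2:ℕ) - x^(2:ℕ)*y + x^(3:ℕ)*y) * b 4) = (y) * b 2 + (-y - x*y^(2:ℕ) + x^(2:ℕ)*y + x^(2:ℕ)*y^(2:ℕ)) * b 3 + (x*y^(2:ℕ) - x^(2:ℕ)*y - x^(2:ℕ)*y^(2:ℕ) + x^(3:ℕ)*y^(2:ℕ)) * b 4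
    rw [h3]; try ring
  · refine (tau_nonneg hA q (show ¬ vecT 23 3 < 0 by decide) _).trans ?_
    show (q 3 : ℚ) * ((x^(2:ℕ)*y) * b 3 + (-x^(2:ℕ)*y + x^(3:ℕ)*y) * b 4) = (x^(2:ℕ)*y^(2:ℕ)) * b 3 + (-x^(2:ℕ)*y^(2:ℕ) + x^(3:ℕ)*y^(2:ℕ)) * b 4
    rw [h3]; try ring

include h2 in
theorem step7 : (tab hA).tau q 2 (V6 x y b) = V7 x y b := by
  funext s
  fin_cases s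
  · refine (tau_nonneg hA q (show ¬ vecT 0 2 < 0 by decide) _).trans ?_
    show (q 2 : ℚ) * ((x^(3:ℕ)*y^(2:ℕ)) * b 1) = (x^(3:ℕ)*y^(3:ℕ)) * b 1
    rw [h2]; try ring
  · refine (tau_nonneg hA q (show ¬ vecT 1 2 < 0 by decide) _).trans ?_
    show (q 2 : ℚ) * ((x^(3:ℕ)*y^(2:ℕ)) * b 2) = (x^(3:ℕ)*y^(3:ℕ)) * b 2
    rw [h2]; try ring
  · refine (tau_nonneg hA q (show ¬ vecT 2 2 < 0 by decide) _).trans ?_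
    show (q 2 : ℚ) * ((x^(3:ℕ)*y^(2:ℕ)) * b 3) = (x^(3:ℕ)*y^(3:ℕ)) * b 3
    rw [h2]; try ring
  · refine (tau_neg hA q (show vecT 3 2 < 0 by decide) _).trans ?_
    show ((x^(2:ℕ)*y^(2:ℕ)) * b 1 + (-x^(2:ℕ)*y^(2:ℕ) + x^(3:ℕ)*y^(2:ℕ)) * b 2) + ((q 2 : ℚ) - 1) * ((x^(3:ℕ)*y^(2:ℕ)) * b 3) = (x^(2:ℕ)*y^(2:ℕ)) * b 1 + (-x^(2:ℕ)*y^(2:ℕ) + x^(3:ℕ)*y^(2:ℕ)) * b 2 + (-x^(3:ℕ)*y^(2:ℕ) + x^(3:ℕ)*y^(3:ℕ)) * b 3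
    rw [h2]; try ring
  · refine (tau_nonneg hA q (show ¬ vecT 4 2 < 0 by decide) _).trans ?_
    show (q 2 : ℚ) * ((x^(2:ℕ)*y^(2:ℕ)) * b 2 + (-x^(2:ℕ)*y^(2:ℕ) + x^(3:ℕ)*y^(2:ℕ)) * b 3) = (x^(2:ℕ)*y^(3:ℕ)) * b 2 + (-x^(2:ℕ)*y^(3:ℕ) + x^(3:ℕ)*y^(3:ℕ)) * b 3
    rw [h2]; try ring
  · refine (tau_nonneg hA q (show ¬ vecT 5 2 < 0 by decide) _).trans ?_
    show (q 2 : ℚ) * ((x^(2:ℕ)*y) * b 1 + (-x^(2:ℕ)*y + x^(3:ℕ)*y) * b 2 + (-x^(3:ℕ)*y + x^(3:ℕ)*y^(2:ℕ)) * b 3) = (x^(2:ℕ)*y^(2:ℕ)) * b 1 + (-x^(2:ℕ)*y^(2:ℕ) + x^(3:ℕ)*y^(2:ℕ)) * b 2 + (-x^(3:ℕ)*y^(2:ℕ) + x^(3:ℕ)*y^(3:ℕ)) * b 3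
    rw [h2]; try ring
  · refine (tau_nonneg hA q (show ¬ vecT 6 2 < 0 by decide) _).trans ?_
    show (q 2 : ℚ) * ((x^(3:ℕ)*y^(2:ℕ)) * b 3) = (x^(3:ℕ)*y^(3:ℕ)) * b 3
    rw [h2]; try ring
  · refine (tau_nonneg hA q (show ¬ vecT 7 2 < 0 by decide) _).trans ?_
    show (q 2 : ℚ) * ((x^(2:ℕ)*y^(2:ℕ)) * b 2 + (-x^(2:ℕ)*y^(2:ℕ) + x^(3:ℕ)*y^(2:ℕ)) * b 3) = (x^(2:ℕ)*y^(3:ℕ)) * b 2 + (-x^(2:ℕ)*y^(3:ℕ) + x^(3:ℕ)*y^(3:ℕ)) * b 3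
    rw [h2]; try ring
  · refine (tau_nonneg hA q (show ¬ vecT 8 2 < 0 by decide) _).trans ?_
    show (q 2 : ℚ) * ((x^(3:ℕ)*y^(2:ℕ)) * b 3) = (x^(3:ℕ)*y^(3:ℕ)) * b 3
    rw [h2]; try ring
  · refine (tau_neg hA q (show vecT 9 2 < 0 by decide) _).trans ?_
    show (b 0 + (-1 - x*y + x^(2:ℕ) + x^(2:ℕ)*y) * b 1 + (x*y - x^(2:ℕ) - 2*x^(2:ℕ)*y + x^(2:ℕ)*y^(2:ℕ) + x^(3:ℕ)*y) * b 2 + (x^(2:ℕ)*y - x^(2:ℕ)*y^(2:ℕ) - x^(3:ℕ)*y + x^(3:ℕ)*y^(2:ℕ)) * b 3) + ((q 2 : ℚ) - 1) * ((x^(2:ℕ)*y^(2:ℕ)) * b 2 + (-x^(2:ℕ)*y^(2:ℕ) + x^(3:ℕ)*y^(2:ℕ)) * b 3) = b 0 + (-1 - x*y + x^(2:ℕ) + x^(2:ℕ)*y) * b 1 + (x*y - x^(2:ℕ) - 2*x^(2:ℕ)*y + x^(3:ℕ)*y + x^(2:ℕ)*y^(3:ℕ)) * b 2 + (x^(2:ℕ)*y - x^(3:ℕ)*y - x^(2:ℕ)*y^(3:ℕ) + x^(3:ℕ)*y^(3:ℕ)) * b 3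
    rw [h2]; try ring
  · refine (tau_neg hA q (show vecT 10 2 < 0 by decide) _).trans ?_
    show ((x^(2:ℕ)*y) * b 1 + (-x^(2:ℕ)*y + x^(3:ℕ)*y) * b 2 + (-x^(3:ℕ)*y + x^(3:ℕ)*y^(2:ℕ)) * b 3) + ((q 2 : ℚ) - 1) * ((x^(3:ℕ)*y^(2:ℕ)) * b 3) = (x^(2:ℕ)*y) * b 1 + (-x^(2:ℕ)*y + x^(3:ℕ)*y) * b 2 + (-x^(3:ℕ)*y + x^(3:ℕ)*y^(3:ℕ)) * b 3
    rw [h2]; try ring
  · refine (tau_nonneg hA q (show ¬ vecT 11 2 < 0 by decide) _).trans ?_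
    show (q 2 : ℚ) * ((x*y) * b 1 + (-x*y - x*y^(2:ℕ) + x^(2:ℕ)*y + x^(2:ℕ)*y^(2:ℕ)) * b 2 + (x*y^(2:ℕ) - x^(2:ℕ)*y - x^(2:ℕ)*y^(2:ℕ) + x^(3:ℕ)*y^(2:ℕ)) * b 3) = (x*y^(2:ℕ)) * b 1 + (-x*y^(2:ℕ) - x*y^(3:ℕ) + x^(2:ℕ)*y^(2:ℕ) + x^(2:ℕ)*y^(3:ℕ)) * b 2 + (x*y^(3:ℕ) - x^(2:ℕ)*y^(2:ℕ) - x^(2:ℕ)*y^(3:ℕ) + x^(3:ℕ)*y^(3:ℕ)) * b 3
    rw [h2]; try ring
  · refine (tau_nonneg hA q (show ¬ vecT 12 2 < 0 by decide) _).trans ?_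
    show (q 2 : ℚ) * ((x^(3:ℕ)*y^(2:ℕ)) * b 3) = (x^(3:ℕ)*y^(3:ℕ)) * b 3
    rw [h2]; try ring
  · refine (tau_nonneg hA q (show ¬ vecT 13 2 < 0 by decide) _).trans ?_
    show (q 2 : ℚ) * ((x^(3:ℕ)*y^(2:ℕ)) * b 3) = (x^(3:ℕ)*y^(3:ℕ)) * b 3
    rw [h2]; try ring
  · refine (tau_nonneg hA q (show ¬ vecT 14 2 < 0 by decide) _).trans ?_
    show (q 2 : ℚ) * ((x^(3:ℕ)*y^(2:ℕ)) * b 4) = (x^(3:ℕ)*y^(3:ℕ)) * b 4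
    rw [h2]; try ring
  · refine (tau_neg hA q (show vecT 15 2 < 0 by decide) _).trans ?_
    show ((x*y) * b 1 + (-x*y + x^(2:ℕ)*y) * b 2 + (-x^(2:ℕ)*y + x^(3:ℕ)*y^(2:ℕ)) * b 3) + ((q 2 : ℚ) - 1) * ((x^(3:ℕ)*y^(2:ℕ)) * b 3) = (x*y) * b 1 + (-x*y + x^(2:ℕ)*y) * b 2 + (-x^(2:ℕ)*y + x^(3:ℕ)*y^(3:ℕ)) * b 3
    rw [h2]; try ring
  · refine (tau_neg hA q (show vecT 16 2 < 0 by decide) _).trans ?_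
    show ((x*y^(2:ℕ)) * b 2 + (-x*y^(2:ℕ) + x^(3:ℕ)*y^(2:ℕ)) * b 3) + ((q 2 : ℚ) - 1) * ((x^(3:ℕ)*y^(2:ℕ)) * b 4) = (x*y^(2:ℕ)) * b 2 + (-x*y^(2:ℕ) + x^(3:ℕ)*y^(2:ℕ)) * b 3 + (-x^(3:ℕ)*y^(2:ℕ) + x^(3:ℕ)*y^(3:ℕ)) * b 4
    rw [h2]; try ring
  · refine (tau_nonneg hA q (show ¬ vecT 17 2 < 0 by decide) _).trans ?_
    show (q 2 : ℚ) * ((x) * b 1 + (-x + x^(2:ℕ)) * b 2 + (-x^(2:ℕ) + x^(3:ℕ)*y^(2:ℕ)) * b 3) = (x*y) * b 1 + (-x*y + x^(2:ℕ)*y) * b 2 + (-x^(2:ℕ)*y + x^(3:ℕ)*y^(3:ℕ)) * b 3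
    rw [h2]; try ring
  · refine (tau_nonneg hA q (show ¬ vecT 18 2 < 0 by decide) _).trans ?_
    show (q 2 : ℚ) * ((x^(2:ℕ)*y^(2:ℕ)) * b 3 + (-x^(2:ℕ)*y^(2:ℕ) + x^(3:ℕ)*y^(2:ℕ)) * b 4) = (x^(2:ℕ)*y^(3:ℕ)) * b 3 + (-x^(2:ℕ)*y^(3:ℕ) + x^(3:ℕ)*y^(3:ℕ)) * b 4
    rw [h2]; try ring
  · refine (tau_nonneg hA q (show ¬ vecT 19 2 < 0 by decide) _).trans ?_
    show (q 2 : ℚ) * ((x*y) * b 2 + (-x*y + x^(3:ℕ)*y) * b 3 + (-x^(3:ℕ)*y + x^(3:ℕ)*y^(2:ℕ)) * b 4) = (x*y^(2:ℕ)) * b 2 + (-x*y^(2:ℕ) + x^(3:ℕ)*y^(2:ℕ)) * b 3 + (-x^(3:ℕ)*y^(2:ℕ) + x^(3:ℕ)*y^(3:ℕ)) * b 4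
    rw [h2]; try ring
  · refine (tau_nonneg hA q (show ¬ vecT 20 2 < 0 by decide) _).trans ?_
    show (q 2 : ℚ) * ((x^(2:ℕ)*y^(2:ℕ)) * b 3 + (-x^(2:ℕ)*y^(2:ℕ) + x^(3:ℕ)*y^(2:ℕ)) * b 4) = (x^(2:ℕ)*y^(3:ℕ)) * b 3 + (-x^(2:ℕ)*y^(3:ℕ) + x^(3:ℕ)*y^(3:ℕ)) * b 4
    rw [h2]; try ring
  · refine (tau_neg hA q (show vecT 21 2 < 0 by decide) _).trans ?_
    show (b 1 + (-1 - y + x + x*y) * b 2 + (y - x - x*y - x^(2:ℕ)*y + x^(2:ℕ)*y^(2:ℕ) + x^(3:ℕ)*y) * b 3 + (x^(2:ℕ)*y - x^(2:ℕ)*y^(2:ℕ) - x^(3:ℕ)*y + x^(3:ℕ)*y^(2:ℕ)) * b 4) + ((q 2 : ℚ) - 1) * ((x^(2:ℕ)*y^(2:ℕ)) * b 3 + (-x^(2:ℕ)*y^(2:ℕ) + x^(3:ℕ)*y^(2:ℕ)) * b 4) = b 1 + (-1 - y + x + x*y) * b 2 + (y - x - x*y - x^(2:ℕ)*y + x^(3:ℕ)*y + x^(2:ℕ)*y^(3:ℕ)) * b 3 + (x^(2:ℕ)*y -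 x^(3:ℕ)*y - x^(2:ℕ)*y^(3:ℕ) + x^(3:ℕ)*y^(3:ℕ)) * b 4
    rw [h2]; try ring
  · refine (tau_nonneg hA q (show ¬ vecT 22 2 < 0 by decide) _).trans ?_
    show (q 2 : ℚ) * ((y) * b 2 + (-y - x*y^(2:ℕ) + x^(2:ℕ)*y + x^(2:ℕ)*y^(2:ℕ)) * b 3 + (x*y^(2:ℕ) - x^(2:ℕ)*y - x^(2:ℕ)*y^(2:ℕ) + x^(3:ℕ)*y^(2:ℕ)) * b 4) = (y^(2:ℕ)) * b 2 + (-y^(2:ℕ) - x*y^(3:ℕ) + x^(2:ℕ)*y^(2:ℕ) + x^(2:ℕ)*y^(3:ℕ)) * b 3 + (x*y^(3:ℕ) - x^(2:ℕ)*y^(2:ℕ) - x^(2:ℕ)*y^(3:ℕ) + x^(3:ℕ)*y^(3:ℕ)) * b 4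
    rw [h2]; try ring
  · refine (tau_nonneg hA q (show ¬ vecT 23 2 < 0 by decide) _).trans ?_
    show (q 2 : ℚ) * ((x^(2:ℕ)*y^(2:ℕ)) * b 3 + (-x^(2:ℕ)*y^(2:ℕ) + x^(3:ℕ)*y^(2:ℕ)) * b 4) = (x^(2:ℕ)*y^(3:ℕ)) * b 3 + (-x^(2:ℕ)*y^(3:ℕ) + x^(3:ℕ)*y^(3:ℕ)) * b 4
    rw [h2]; try ring

include h1 in
theorem step8 : (tab hA).tau q 1 (V7 x y b) = V8 x y b := by
  funext s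
  fin_cases s
  · refine (tau_nonneg hA q (show ¬ vecT 0 1 < 0 by decide) _).trans ?_
    show (q 1 : ℚ) * ((x^(3:ℕ)*y^(3:ℕ)) * b 1) = (x^(4:ℕ)*y^(3:ℕ)) * b 1
    rw [h1]; try ring
  · refine (tau_nonneg hA q (show ¬ vecT 1 1 < 0 by decide) _).trans ?_
    show (q 1 : ℚ) * ((x^(3:ℕ)*y^(3:ℕ)) * b 3) = (x^(4:ℕ)*y^(3:ℕ)) * b 3
    rw [h1]; try ring
  · refine (tau_neg hA q (show vecT 2 1 < 0 by decide) _).trans ?_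
    show ((x^(3:ℕ)*y^(3:ℕ)) * b 2) + ((q 1 : ℚ) - 1) * ((x^(3:ℕ)*y^(3:ℕ)) * b 3) = (x^(3:ℕ)*y^(3:ℕ)) * b 2 + (-x^(3:ℕ)*y^(3:ℕ) + x^(4:ℕ)*y^(3:ℕ)) * b 3
    rw [h1]; try ring
  · refine (tau_nonneg hA q (show ¬ vecT 3 1 < 0 by decide) _).trans ?_
    show (q 1 : ℚ) * ((x^(2:ℕ)*y^(3:ℕ)) * b 2 + (-x^(2:ℕ)*y^(3:ℕ) + x^(3:ℕ)*y^(3:ℕ)) * b 3) = (x^(3:ℕ)*y^(3:ℕ)) * b 2 + (-x^(3:ℕ)*y^(3:ℕ) + x^(4:ℕ)*y^(3:ℕ)) * b 3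
    rw [h1]; try ring
  · refine (tau_neg hA q (show vecT 4 1 < 0 by decide) _).trans ?_
    show ((x^(2:ℕ)*y^(2:ℕ)) * b 1 + (-x^(2:ℕ)*y^(2:ℕ) + x^(3:ℕ)*y^(2:ℕ)) * b 2 + (-x^(3:ℕ)*y^(2:ℕ) + x^(3:ℕ)*y^(3:ℕ)) * b 3) + ((q 1 : ℚ) - 1) * ((x^(2:ℕ)*y^(3:ℕ)) * b 2 + (-x^(2:ℕ)*y^(3:ℕ) + x^(3:ℕ)*y^(3:ℕ)) * b 3) = (x^(2:ℕ)*y^(2:ℕ)) * b 1 + (-x^(2:ℕ)*y^(2:ℕ) - x^(2:ℕ)*y^(3:ℕ) + x^(3:ℕ)*y^(2:ℕ) + x^(3:ℕ)*y^(3:ℕ)) * b 2 + (x^(2:ℕ)*y^(3:ℕ) - x^(3:ℕ)*y^(2:ℕ) - x^(3:ℕ)*y^(3:ℕ) + x^(4:ℕ)*y^(3:ℕ)) * b 3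
    rw [h1]; try ring
  · refine (tau_nonneg hA q (show ¬ vecT 5 1 < 0 by decide) _).trans ?_
    show (q 1 : ℚ) * ((x^(2:ℕ)*y^(3:ℕ)) * b 2 + (-x^(2:ℕ)*y^(3:ℕ) + x^(3:ℕ)*y^(3:ℕ)) * b 3) = (x^(3:ℕ)*y^(3:ℕ)) * b 2 + (-x^(3:ℕ)*y^(3:ℕ) + x^(4:ℕ)*y^(3:ℕ)) * b 3
    rw [h1]; try ring
  · refine (tau_nonneg hA q (show ¬ vecT 6 1 < 0 by decide) _).trans ?_
    show (q 1 : ℚ) * ((x^(3:ℕ)*y^(3:ℕ)) * b 3) = (x^(4:ℕ)*y^(3:ℕ)) * b 3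
    rw [h1]; try ring
  · refine (tau_neg hA q (show vecT 7 1 < 0 by decide) _).trans ?_
    show ((x^(2:ℕ)*y^(2:ℕ)) * b 1 + (-x^(2:ℕ)*y^(2:ℕ) + x^(3:ℕ)*y^(2:ℕ)) * b 2 + (-x^(3:ℕ)*y^(2:ℕ) + x^(3:ℕ)*y^(3:ℕ)) * b 3) + ((q 1 : ℚ) - 1) * ((x^(2:ℕ)*y^(3:ℕ)) * b 2 + (-x^(2:ℕ)*y^(3:ℕ) + x^(3:ℕ)*y^(3:ℕ)) * b 3) = (x^(2:ℕ)*y^(2:ℕ)) * b 1 + (-x^(2:ℕ)*y^(2:ℕ) - x^(2:ℕ)*y^(3:ℕ) + x^(3:ℕ)*y^(2:ℕ) + x^(3:ℕ)*y^(3:ℕ)) * b 2 + (x^(2:ℕ)*y^(3:ℕ) - x^(3:ℕ)*y^(2:ℕ) - x^(3:ℕ)*y^(3:ℕ) + x^(4:ℕ)*y^(3:ℕ)) * b 3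
    rw [h1]; try ring
  · refine (tau_nonneg hA q (show ¬ vecT 8 1 < 0 by decide) _).trans ?_
    show (q 1 : ℚ) * ((x^(3:ℕ)*y^(3:ℕ)) * b 3) = (x^(4:ℕ)*y^(3:ℕ)) * b 3
    rw [h1]; try ring
  · refine (tau_nonneg hA q (show ¬ vecT 9 1 < 0 by decide) _).trans ?_
    show (q 1 : ℚ) * ((x*y^(2:ℕ)) * b 1 + (-x*y^(2:ℕ) - x*y^(3:ℕ) + x^(2:ℕ)*y^(2:ℕ) + x^(2:ℕ)*y^(3:ℕ)) * b 2 + (x*y^(3:ℕ) - x^(2:ℕ)*y^(2:ℕ) - x^(2:ℕ)*y^(3:ℕ) + x^(3:ℕ)*y^(3:ℕ)) * b 3) = (x^(2:ℕ)*y^(2:ℕ)) * b 1 + (-x^(2:ℕ)*y^(2:ℕ) - x^(2:ℕ)*y^(3:ℕ) + x^(3:ℕ)*y^(2:ℕ) + x^(3:ℕ)*y^(3:ℕ)) * b 2 + (x^(2:ℕ)*y^(3:ℕ) - x^(3:ℕ)*y^(2:ℕ) - x^(3:ℕ)*y^(3:ℕ) + x^(4:ℕ)*y^(3:ℕ)) * b 3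
    rw [h1]; try ring
  · refine (tau_nonneg hA q (show ¬ vecT 10 1 < 0 by decide) _).trans ?_
    show (q 1 : ℚ) * ((x^(3:ℕ)*y^(3:ℕ)) * b 3) = (x^(4:ℕ)*y^(3:ℕ)) * b 3
    rw [h1]; try ring
  · refine (tau_neg hA q (show vecT 11 1 < 0 by decide) _).trans ?_
    show (b 0 + (-1 - x*y + x^(2:ℕ) + x^(2:ℕ)*y) * b 1 + (x*y - x^(2:ℕ) - 2*x^(2:ℕ)*y + x^(3:ℕ)*y + x^(2:ℕ)*y^(3:ℕ)) * b 2 + (x^(2:ℕ)*y - x^(3:ℕ)*y - x^(2:ℕ)*y^(3:ℕ) + x^(3:ℕ)*y^(3:ℕ)) * b 3) + ((q 1 : ℚ) - 1) * ((x*y^(2:ℕ)) * b 1 + (-x*y^(2:ℕ) - x*y^(3:ℕ) + x^(2:ℕ)*y^(2:ℕ) + x^(2:ℕ)*y^(3:ℕ)) * b 2 + (x*y^(3:ℕ) - x^(2:ℕ)*y^(2:ℕ) - x^(2:ℕ)*y^(3:ℕ) + x^(3:ℕ)*y^(3:ℕ)) * b 3) = b 0 + (-1 - x*y + x^(2:ℕ) - x*y^(2:ℕ) + x^(2:ℕ)*y + x^(2:ℕ)*y^(2:ℕ)) * b 1 + (x*y - x^(2:ℕ)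 + x*y^(2:ℕ) - 2*x^(2:ℕ)*y + x*y^(3:ℕ) - 2*x^(2:ℕ)*y^(2:ℕ) + x^(3:ℕ)*y - x^(2:ℕ)*y^(3:ℕ) + x^(3:ℕ)*y^(2:ℕ) + x^(3:ℕ)*y^(3:ℕ)) * b 2 + (x^(2:ℕ)*y - x*y^(3:ℕ) + x^(2:ℕ)*y^(2:ℕ) - x^(3:ℕ)*y + x^(2:ℕ)*y^(3:ℕ) - x^(3:ℕ)*y^(2:ℕ) - x^(3:ℕ)*y^(3:ℕ) + x^(4:ℕ)*y^(3:ℕ)) * b 3
    rw [h1]; try ring
  · refine (tau_neg hA q (show vecT 12 1 < 0 by decide) _).trans ?_
    show ((x^(2:ℕ)*y) * b 1 + (-x^(2:ℕ)*y + x^(3:ℕ)*y) * b 2 + (-x^(3:ℕ)*y + x^(3:ℕ)*y^(3:ℕ)) * b 3) + ((q 1 : ℚ) - 1) * ((x^(3:ℕ)*y^(3:ℕ)) * b 3) = (x^(2:ℕ)*y) * b 1 + (-x^(2:ℕ)*y + x^(3:ℕ)*y) * b 2 + (-x^(3:ℕ)*y + x^(4:ℕ)*y^(3:ℕ)) * b 3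
    rw [h1]; try ring
  · refine (tau_nonneg hA q (show ¬ vecT 13 1 < 0 by decide) _).trans ?_
    show (q 1 : ℚ) * ((x^(3:ℕ)*y^(3:ℕ)) * b 4) = (x^(4:ℕ)*y^(3:ℕ)) * b 4
    rw [h1]; try ring
  · refine (tau_neg hA q (show vecT 14 1 < 0 by decide) _).trans ?_
    show ((x^(3:ℕ)*y^(3:ℕ)) * b 3) + ((q 1 : ℚ) - 1) * ((x^(3:ℕ)*y^(3:ℕ)) * b 4) = (x^(3:ℕ)*y^(3:ℕ)) * b 3 + (-x^(3:ℕ)*y^(3:ℕ) + x^(4:ℕ)*y^(3:ℕ)) * b 4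
    rw [h1]; try ring
  · refine (tau_nonneg hA q (show ¬ vecT 15 1 < 0 by decide) _).trans ?_
    show (q 1 : ℚ) * ((x*y) * b 1 + (-x*y + x^(2:ℕ)*y) * b 2 + (-x^(2:ℕ)*y + x^(3:ℕ)*y^(3:ℕ)) * b 3) = (x^(2:ℕ)*y) * b 1 + (-x^(2:ℕ)*y + x^(3:ℕ)*y) * b 2 + (-x^(3:ℕ)*y + x^(4:ℕ)*y^(3:ℕ)) * b 3
    rw [h1]; try ring
  · refine (tau_nonneg hA q (show ¬ vecT 16 1 < 0 by decide) _).trans ?_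
    show (q 1 : ℚ) * ((x^(2:ℕ)*y^(3:ℕ)) * b 3 + (-x^(2:ℕ)*y^(3:ℕ) + x^(3:ℕ)*y^(3:ℕ)) * b 4) = (x^(3:ℕ)*y^(3:ℕ)) * b 3 + (-x^(3:ℕ)*y^(3:ℕ) + x^(4:ℕ)*y^(3:ℕ)) * b 4
    rw [h1]; try ring
  · refine (tau_nonneg hA q (show ¬ vecT 17 1 < 0 by decide) _).trans ?_
    show (q 1 : ℚ) * ((x*y) * b 1 + (-x*y + x^(2:ℕ)*y) * b 2 + (-x^(2:ℕ)*y + x^(3:ℕ)*y^(3:ℕ)) * b 3) = (x^(2:ℕ)*y) * b 1 + (-x^(2:ℕ)*y + x^(3:ℕ)*y) * b 2 + (-x^(3:ℕ)*y + x^(4:ℕ)*y^(3:ℕ)) * b 3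
    rw [h1]; try ring
  · refine (tau_neg hA q (show vecT 18 1 < 0 by decide) _).trans ?_
    show ((x*y^(2:ℕ)) * b 2 + (-x*y^(2:ℕ) + x^(3:ℕ)*y^(2:ℕ)) * b 3 + (-x^(3:ℕ)*y^(2:ℕ) + x^(3:ℕ)*y^(3:ℕ)) * b 4) + ((q 1 : ℚ) - 1) * ((x^(2:ℕ)*y^(3:ℕ)) * b 3 + (-x^(2:ℕ)*y^(3:ℕ) + x^(3:ℕ)*y^(3:ℕ)) * b 4) = (x*y^(2:ℕ)) * b 2 + (-x*y^(2:ℕ) - x^(2:ℕ)*y^(3:ℕ) + x^(3:ℕ)*y^(2:ℕ) + x^(3:ℕ)*y^(3:ℕ)) * b 3 + (x^(2:ℕ)*y^(3:ℕ) - x^(3:ℕ)*y^(2:ℕ) - x^(3:ℕ)*y^(3:ℕ) + x^(4:ℕ)*y^(3:ℕ)) * b 4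
    rw [h1]; try ring
  · refine (tau_nonneg hA q (show ¬ vecT 19 1 < 0 by decide) _).trans ?_
    show (q 1 : ℚ) * ((x^(2:ℕ)*y^(3:ℕ)) * b 3 + (-x^(2:ℕ)*y^(3:ℕ) + x^(3:ℕ)*y^(3:ℕ)) * b 4) = (x^(3:ℕ)*y^(3:ℕ)) * b 3 + (-x^(3:ℕ)*y^(3:ℕ) + x^(4:ℕ)*y^(3:ℕ)) * b 4
    rw [h1]; try ring
  · refine (tau_neg hA q (show vecT 20 1 < 0 by decide) _).trans ?_
    show ((x*y^(2:ℕ)) * b 2 + (-x*y^(2:ℕ) + x^(3:ℕ)*y^(2:ℕ)) * b 3 + (-x^(3:ℕ)*y^(2:ℕ) + x^(3:ℕ)*y^(3:ℕ)) * b 4) + ((q 1 : ℚ) - 1) * ((x^(2:ℕ)*y^(3:ℕ)) * b 3 + (-x^(2:ℕ)*y^(3:ℕ) + x^(3:ℕ)*y^(3:ℕ)) * b 4) = (x*y^(2:ℕ)) * b 2 + (-x*y^(2:ℕ) - x^(2:ℕ)*y^(3:ℕ) + x^(3:ℕ)*y^(2:ℕ) + x^(3:ℕ)*y^(3:ℕ)) * b 3 + (x^(2:ℕ)*y^(3:ℕ) - x^(3:ℕ)*y^(2:ℕ) - x^(3:ℕ)*y^(3:ℕ) + x^(4:ℕ)*y^(3:ℕ)) * b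 4
    rw [h1]; try ring
  · refine (tau_nonneg hA q (show ¬ vecT 21 1 < 0 by decide) _).trans ?_
    show (q 1 : ℚ) * ((y^(2:ℕ)) * b 2 + (-y^(2:ℕ) - x*y^(3:ℕ) + x^(2:ℕ)*y^(2:ℕ) + x^(2:ℕ)*y^(3:ℕ)) * b 3 + (x*y^(3:ℕ) - x^(2:ℕ)*y^(2:ℕ) - x^(2:ℕ)*y^(3:ℕ) + x^(3:ℕ)*y^(3:ℕ)) * b 4) = (x*y^(2:ℕ)) * b 2 + (-x*y^(2:ℕ) - x^(2:ℕ)*y^(3:ℕ) + x^(3:ℕ)*y^(2:ℕ) + x^(3:ℕ)*y^(3:ℕ)) * b 3 + (x^(2:ℕ)*y^(3:ℕ) - x^(3:ℕ)*y^(2:ℕ) - x^(3:ℕ)*y^(3:ℕ) + x^(4:ℕ)*y^(3:ℕ)) * b 4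
    rw [h1]; try ring
  · refine (tau_neg hA q (show vecT 22 1 < 0 by decide) _).trans ?_
    show (b 1 + (-1 - y + x + x*y) * b 2 + (y - x - x*y - x^(2:ℕ)*y + x^(3:ℕ)*y + x^(2:ℕ)*y^(3:ℕ)) * b 3 + (x^(2:ℕ)*y - x^(3:ℕ)*y - x^(2:ℕ)*y^(3:ℕ) + x^(3:ℕ)*y^(3:ℕ)) * b 4) + ((q 1 : ℚ) - 1) * ((y^(2:ℕ)) * b 2 + (-y^(2:ℕ) - x*y^(3:ℕ) + x^(2:ℕ)*y^(2:ℕ) + x^(2:ℕ)*y^(3:ℕ)) * b 3 + (x*y^(3:ℕ) - x^(2:ℕ)*y^(2:ℕ) - x^(2:ℕ)*y^(3:ℕ) + x^(3:ℕ)*y^(3:ℕ)) * b 4) = b 1 + (-1 - y + x - y^(2:ℕ) + x*y + x*y^(2:ℕ)) * b 2 + (y - x + y^(2:ℕ) - x*y - x*y^(2:ℕ) - x^(2:ℕ)*y + x*y^(3:ℕ) - x^(2:ℕ)*y^(2:ℕ) + x^(3:ℕ)*y - x^(2:ℕ)*y^(3:ℕ) + x^(3:ℕ)*y^(2:ℕ) + x^(3:ℕ)*y^(3:ℕ)) * b 3 + (x^(2:ℕ)*y - x*y^(3:ℕ) + x^(2:ℕ)*y^(2:ℕ) - x^(3:ℕ)*y + x^(2:ℕ)*y^(3:ℕ) -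 x^(3:ℕ)*y^(2:ℕ) - x^(3:ℕ)*y^(3:ℕ) + x^(4:ℕ)*y^(3:ℕ)) * b 4
    rw [h1]; try ring
  · refine (tau_nonneg hA q (show ¬ vecT 23 1 < 0 by decide) _).trans ?_
    show (q 1 : ℚ) * ((x^(2:ℕ)*y^(3:ℕ)) * b 3 + (-x^(2:ℕ)*y^(3:ℕ) + x^(3:ℕ)*y^(3:ℕ)) * b 4) = (x^(3:ℕ)*y^(3:ℕ)) * b 3 + (-x^(3:ℕ)*y^(3:ℕ) + x^(4:ℕ)*y^(3:ℕ)) * b 4
    rw [h1]; try ring

/-- the right hand sides -/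
def RR (x y : ℚ) (b : Fin 5 → ℚ) : Fin 5 → ℚ := ![
  (x + x^(2:ℕ) + x^(2:ℕ)*y + x^(2:ℕ)*y^(2:ℕ) + x^(3:ℕ)*y + x^(3:ℕ)*y^(2:ℕ) + x^(3:ℕ)*y^(3:ℕ) + x^(4:ℕ)*y^(3:ℕ)) * b 1,
  b 0 + (-1 + x + x^(2:ℕ) + x^(2:ℕ)*y + x^(2:ℕ)*y^(2:ℕ)) * b 1 + (x^(3:ℕ)*y + x^(3:ℕ)*y^(2:ℕ) + x^(3:ℕ)*y^(3:ℕ)) * b 2 + (x^(4:ℕ)*y^(3:ℕ)) * b 3,
  (1 + x + x*y + x^(2:ℕ)*y) * b 1 + (-1 - x*y + x^(2:ℕ) + x^(3:ℕ)*y) * b 2 + (x^(2:ℕ)*y^(2:ℕ) + x^(3:ℕ)*y^(2:ℕ) + x^(3:ℕ)*y^(3:ℕ) + x^(4:ℕ)*y^(3:ℕ)) * b 3,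
  b 1 + (x + x*y + x*y^(2:ℕ)) * b 2 + (-1 - x*y + x^(2:ℕ) - x*y^(2:ℕ) + x^(2:ℕ)*y + x^(2:ℕ)*y^(2:ℕ) + x^(3:ℕ)*y + x^(3:ℕ)*y^(2:ℕ) + x^(3:ℕ)*y^(3:ℕ)) * b 3 + (x^(4:ℕ)*y^(3:ℕ)) * b 4,
  (1 + x + x*y + x*y^(2:ℕ) + x^(2:ℕ)*y + x^(2:ℕ)*y^(2:ℕ) + x^(2:ℕ)*y^(3:ℕ) + x^(3:ℕ)*y^(3:ℕ)) * b 3 + (-1 - x*y + x^(2:ℕ) - x*y^(2:ℕ) + x^(3:ℕ)*y - x^(2:ℕ)*y^(3:ℕ) + x^(3:ℕ)*y^(2:ℕ) + x^(4:ℕ)*y^(3:ℕ)) * b 4]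

theorem sumV (s : Fin 24) : V1 x y b s + V2 x y b s + V3 x y b s + V4 x y b s + V5 x y b s + V6 x y b s + V7 x y b s + V8 x y b s = RR x y b (clsT s) := by
  fin_cases s
  · show ((x) * b 1) + ((x^(2:ℕ)) * b 1) + ((x^(2:ℕ)*y) * b 1) + ((x^(3:ℕ)*y) * b 1) + ((x^(2:ℕ)*y^(2:ℕ)) * b 1) + ((x^(3:ℕ)*y^(2:ℕ)) * b 1) + ((x^(3:ℕ)*y^(3:ℕ)) * b 1) + ((x^(4:ℕ)*y^(3:ℕ)) * b 1) = (x + x^(2:ℕ) + x^(2:ℕ)*y + x^(2:ℕ)*y^(2:ℕ) + x^(3:ℕ)*y + x^(3:ℕ)*y^(2:ℕ) + x^(3:ℕ)*y^(3:ℕ) + x^(4:ℕ)*y^(3:ℕ)) * b 1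
    ring
  · show (b 0 + (-1 + x) * b 1) + ((x^(2:ℕ)) * b 1) + ((x^(2:ℕ)*y) * b 1) + ((x^(3:ℕ)*y) * b 2) + ((x^(2:ℕ)*y^(2:ℕ)) * b 1) + ((x^(3:ℕ)*y^(2:ℕ)) * b 2) + ((x^(3:ℕ)*y^(3:ℕ)) * b 2) + ((x^(4:ℕ)*y^(3:ℕ)) * b 3) = b 0 + (-1 + x + x^(2:ℕ) + x^(2:ℕ)*y + x^(2:ℕ)*y^(2:ℕ)) * b 1 + (x^(3:ℕ)*y + x^(3:ℕ)*y^(2:ℕ) + x^(3:ℕ)*y^(3:ℕ)) * b 2 + (x^(4:ℕ)*y^(3:ℕ)) * b 3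
    ring
  · show ((x) * b 1) + (b 0 + (-1 + x^(2:ℕ)) * b 1) + ((x^(2:ℕ)*y) * b 2) + ((x^(2:ℕ)*y) * b 1 + (-x^(2:ℕ)*y + x^(3:ℕ)*y) * b 2) + ((x^(2:ℕ)*y^(2:ℕ)) * b 2) + ((x^(2:ℕ)*y^(2:ℕ)) * b 1 + (-x^(2:ℕ)*y^(2:ℕ) + x^(3:ℕ)*y^(2:ℕ)) * b 2) + ((x^(3:ℕ)*y^(3:ℕ)) * b 3) + ((x^(3:ℕ)*y^(3:ℕ)) * b 2 + (-x^(3:ℕ)*y^(3:ℕ) + x^(4:ℕ)*y^(3:ℕ)) * b 3) = b 0 + (-1 + x + x^(2:ℕ) + x^(2:ℕ)*y + x^(2:ℕ)*y^(2:ℕ)) * b 1 + (x^(3:ℕ)*y + x^(3:ℕ)*y^(2:ℕ) + x^(3:ℕ)*y^(3:ℕ)) * b 2 + (x^(4:ℕ)*y^(3:ℕ)) * b 3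
    ring
  · show ((x) * b 1) + ((x^(2:ℕ)) * b 2) + (b 0 + (-1 + x^(2:ℕ)) * b 1 + (-x^(2:ℕ) + x^(2:ℕ)*y) * b 2) + ((x^(2:ℕ)*y) * b 1 + (-x^(2:ℕ)*y + x^(3:ℕ)*y) * b 2) + ((x^(2:ℕ)*y^(2:ℕ)) * b 2) + ((x^(3:ℕ)*y^(2:ℕ)) * b 3) + ((x^(2:ℕ)*y^(2:ℕ)) * b 1 + (-x^(2:ℕ)*y^(2:ℕ) + x^(3:ℕ)*y^(2:ℕ)) * b 2 + (-x^(3:ℕ)*y^(2:ℕ) + x^(3:ℕ)*y^(3:ℕ)) * b 3) + ((x^(3:ℕ)*y^(3:ℕ)) * b 2 + (-x^(3:ℕ)*y^(3:ℕ) + x^(4:ℕ)*y^(3:ℕ)) * b 3) = b 0 + (-1 + x + x^(2:ℕ) + x^(2:ℕ)*y + x^(2:ℕ)*y^(2:ℕ)) * b 1 + (x^(3:ℕ)*y + x^(3:ℕ)*y^(2:ℕ) + x^(3:ℕ)*y^(3:ℕ)) * b 2 + (x^(4:ℕ)*y^(3:ℕ)) * b 3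
    ring
  · show ((x) * b 2) + ((x) * b 1 + (-x + x^(2:ℕ)) * b 2) + ((x*y) * b 1 + (-x*y + x^(2:ℕ)*y) * b 2) + (b 0 + (-1 - x*y + x^(2:ℕ) + x^(2:ℕ)*y) * b 1 + (x*y - x^(2:ℕ) - x^(2:ℕ)*y + x^(3:ℕ)*y) * b 2) + ((x^(2:ℕ)*y^(2:ℕ)) * b 3) + ((x^(2:ℕ)*y^(2:ℕ)) * b 2 + (-x^(2:ℕ)*y^(2:ℕ) + x^(3:ℕ)*y^(2:ℕ)) * b 3) + ((x^(2:ℕ)*y^(3:ℕ)) * b 2 + (-x^(2:ℕ)*y^(3:ℕ) + x^(3:ℕ)*y^(3:ℕ)) * b 3) + ((x^(2:ℕ)*y^(2:ℕ)) * b 1 + (-x^(2:ℕ)*y^(2:ℕ) - x^(2:ℕ)*y^(3:ℕ) + x^(3:ℕ)*y^(2:ℕ) + x^(3:ℕ)*y^(3:ℕ)) * b 2 + (x^(2:ℕ)*y^(3:ℕ) - x^(3:ℕ)*y^(2:ℕ) - x^(3:ℕ)*y^(3:ℕ) + x^(4:ℕ)*y^(3:ℕ)) * b 3) = b 0 + (-1 + x + x^(2:ℕ) + x^(2:ℕ)*y + x^(2:ℕ)*y^(2:ℕ)) * b 1 + (x^(3:ℕ)*y + x^(3:ℕ)*y^(2:ℕ) + x^(3:ℕ)*y^(3:ℕ)) * b 2 + (x^(4:ℕ)*y^(3:ℕ)) * b 3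
    ring
  · show ((x) * b 1) + ((x^(2:ℕ)) * b 2) + ((x^(2:ℕ)*y) * b 2) + ((x^(3:ℕ)*y) * b 3) + (b 0 + (-1 + x^(2:ℕ)) * b 1 + (-x^(2:ℕ) + x^(2:ℕ)*y^(2:ℕ)) * b 2) + ((x^(2:ℕ)*y) * b 1 + (-x^(2:ℕ)*y + x^(3:ℕ)*y) * b 2 + (-x^(3:ℕ)*y + x^(3:ℕ)*y^(2:ℕ)) * b 3) + ((x^(2:ℕ)*y^(2:ℕ)) * b 1 + (-x^(2:ℕ)*y^(2:ℕ) + x^(3:ℕ)*y^(2:ℕ)) * b 2 + (-x^(3:ℕ)*y^(2:ℕ) + x^(3:ℕ)*y^(3:ℕ)) * b 3) + ((x^(3:ℕ)*y^(3:ℕ)) * b 2 + (-x^(3:ℕ)*y^(3:ℕ) + x^(4:ℕ)*y^(3:ℕ)) * b 3) = b 0 + (-1 + x + x^(2:ℕ) + x^(2:ℕ)*y + x^(2:ℕ)*y^(2:ℕ)) * b 1 + (x^(3:ℕ)*y + x^(3:ℕ)*y^(2:ℕ) + x^(3:ℕ)*y^(3:ℕ)) * b 2 + (x^(4:ℕ)*y^(3:ℕ)) * b 3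
    ring
  · show (b 1 + (-1 + x) * b 2) + ((x) * b 1 + (-x + x^(2:ℕ)) * b 2) + ((x*y) * b 1 + (-x*y + x^(2:ℕ)*y) * b 2) + ((x^(2:ℕ)*y) * b 1 + (-x^(2:ℕ)*y + x^(3:ℕ)*y) * b 2) + ((x^(2:ℕ)*y^(2:ℕ)) * b 3) + ((x^(3:ℕ)*y^(2:ℕ)) * b 3) + ((x^(3:ℕ)*y^(3:ℕ)) * b 3) + ((x^(4:ℕ)*y^(3:ℕ)) * b 3) = (1 + x + x*y + x^(2:ℕ)*y) * b 1 + (-1 - x*y + x^(2:ℕ) + x^(3:ℕ)*y) * b 2 + (x^(2:ℕ)*y^(2:ℕ) + x^(3:ℕ)*y^(2:ℕ) + x^(3:ℕ)*y^(3:ℕ) + x^(4:ℕ)*y^(3:ℕ)) * b 3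
    ring
  · show ((x) * b 2) + ((x) * b 1 + (-x + x^(2:ℕ)) * b 2) + ((x^(2:ℕ)*y) * b 3) + ((x^(2:ℕ)*y) * b 2 + (-x^(2:ℕ)*y + x^(3:ℕ)*y) * b 3) + ((x*y) * b 1 + (-x*y + x^(2:ℕ)*y) * b 2 + (-x^(2:ℕ)*y + x^(2:ℕ)*y^(2:ℕ)) * b 3) + (b 0 + (-1 - x*y + x^(2:ℕ) + x^(2:ℕ)*y) * b 1 + (x*y - x^(2:ℕ) - 2*x^(2:ℕ)*y + x^(2:ℕ)*y^(2:ℕ) + x^(3:ℕ)*y) * b 2 + (x^(2:ℕ)*y - x^(2:ℕ)*y^(2:ℕ) - x^(3:ℕ)*y + x^(3:ℕ)*y^(2:ℕ)) * b 3) + ((x^(2:ℕ)*y^(3:ℕ)) * b 2 + (-x^(2:ℕ)*y^(3:ℕ) + x^(3:ℕ)*y^(3:ℕ)) * b 3) + ((x^(2:ℕ)*y^(2:ℕ)) * b 1 + (-x^(2:ℕ)*y^(2:ℕ) - x^(2:ℕ)*y^(3:ℕ) + x^(3:ℕ)*y^(2:ℕ) + x^(3:ℕ)*y^(3:ℕ)) * b 2 + (x^(2:ℕ)*y^(3:ℕ) - x^(3:ℕ)*y^(2:ℕ) - x^(3:ℕ)*y^(3:ℕ) + x^(4:ℕ)*y^(3:ℕ)) * b 3) = b 0 + (-1 + x + x^(2:ℕ) + x^(2:ℕ)*y + x^(2:ℕ)*y^(2:ℕ))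 * b 1 + (x^(3:ℕ)*y + x^(3:ℕ)*y^(2:ℕ) + x^(3:ℕ)*y^(3:ℕ)) * b 2 + (x^(4:ℕ)*y^(3:ℕ)) * b 3
    ring
  · show (b 1 + (-1 + x) * b 2) + ((x) * b 1 + (-x + x^(2:ℕ)) * b 2) + ((x^(2:ℕ)*y) * b 3) + ((x^(3:ℕ)*y) * b 3) + ((x*y) * b 1 + (-x*y + x^(2:ℕ)*y) * b 2 + (-x^(2:ℕ)*y + x^(2:ℕ)*y^(2:ℕ)) * b 3) + ((x^(2:ℕ)*y) * b 1 + (-x^(2:ℕ)*y + x^(3:ℕ)*y) * b 2 + (-x^(3:ℕ)*y + x^(3:ℕ)*y^(2:ℕ)) * b 3) + ((x^(3:ℕ)*y^(3:ℕ)) * b 3) + ((x^(4:ℕ)*y^(3:ℕ)) * b 3) = (1 + x + x*y + x^(2:ℕ)*y) * b 1 + (-1 - x*y + x^(2:ℕ) + x^(3:ℕ)*y) * b 2 + (x^(2:ℕ)*y^(2:ℕ) + x^(3:ℕ)*y^(2:ℕ) + x^(3:ℕ)*y^(3:ℕ) + x^(4:ℕ)*y^(3:ℕ)) * b 3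
    ring
  · show ((x) * b 2) + ((x^(2:ℕ)) * b 3) + ((x) * b 1 + (-x + x^(2:ℕ)) * b 2 + (-x^(2:ℕ) + x^(2:ℕ)*y) * b 3) + ((x^(2:ℕ)*y) * b 2 + (-x^(2:ℕ)*y + x^(3:ℕ)*y) * b 3) + ((x*y) * b 1 + (-x*y + x^(2:ℕ)*y) * b 2 + (-x^(2:ℕ)*y + x^(2:ℕ)*y^(2:ℕ)) * b 3) + ((x^(2:ℕ)*y^(2:ℕ)) * b 2 + (-x^(2:ℕ)*y^(2:ℕ) + x^(3:ℕ)*y^(2:ℕ)) * b 3) + (b 0 + (-1 - x*y + x^(2:ℕ) + x^(2:ℕ)*y) * b 1 + (x*y - x^(2:ℕ) - 2*x^(2:ℕ)*y + x^(3:ℕ)*y + x^(2:ℕ)*y^(3:ℕ)) * b 2 + (x^(2:ℕ)*y - x^(3:ℕ)*y - x^(2:ℕ)*y^(3:ℕ) + x^(3:ℕ)*y^(3:ℕ)) * b 3) + ((x^(2:ℕ)*y^(2:ℕ)) * b 1 + (-x^(2:ℕ)*y^(2:ℕ) - x^(2:ℕ)*y^(3:ℕ) + x^(3:ℕ)*y^(2:ℕ) + x^(3:ℕ)*y^(3:ℕ)) * b 2 + (x^(2:ℕ)*y^(3:ℕ) - x^(3:ℕ)*y^(2:ℕ) - x^(3:ℕ)*y^(3:ℕ) + x^(4:ℕ)*y^(3:ℕ)) * b 3) = b 0 + (-1 + x + x^(2:ℕ)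 + x^(2:ℕ)*y + x^(2:ℕ)*y^(2:ℕ)) * b 1 + (x^(3:ℕ)*y + x^(3:ℕ)*y^(2:ℕ) + x^(3:ℕ)*y^(3:ℕ)) * b 2 + (x^(4:ℕ)*y^(3:ℕ)) * b 3
    ring
  · show (b 1 + (-1 + x) * b 2) + ((x^(2:ℕ)) * b 3) + ((x) * b 1 + (-x + x^(2:ℕ)) * b 2 + (-x^(2:ℕ) + x^(2:ℕ)*y) * b 3) + ((x^(3:ℕ)*y) * b 3) + ((x*y) * b 1 + (-x*y + x^(2:ℕ)*y) * b 2 + (-x^(2:ℕ)*y + x^(2:ℕ)*y^(2:ℕ)) * b 3) + ((x^(3:ℕ)*y^(2:ℕ)) * b 3) + ((x^(2:ℕ)*y) * b 1 + (-x^(2:ℕ)*y + x^(3:ℕ)*y) * b 2 + (-x^(3:ℕ)*y + x^(3:ℕ)*y^(3:ℕ)) * b 3) + ((x^(4:ℕ)*y^(3:ℕ)) * b 3) = (1 + x + x*y + x^(2:ℕ)*y) * b 1 + (-1 - x*y + x^(2:ℕ) + x^(3:ℕ)*y) * b 2 + (x^(2:ℕ)*y^(2:ℕ) + x^(3:ℕ)*y^(2:ℕ) + x^(3:ℕ)*y^(3:ℕ) + x^(4:ℕ)*y^(3:ℕ)) * b 3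
    ring
  · show ((x) * b 3) + ((x) * b 2 + (-x + x^(2:ℕ)) * b 3) + ((x*y) * b 2 + (-x*y + x^(2:ℕ)*y) * b 3) + ((x) * b 1 + (-x - x*y + x^(2:ℕ) + x^(2:ℕ)*y) * b 2 + (x*y - x^(2:ℕ) - x^(2:ℕ)*y + x^(3:ℕ)*y) * b 3) + ((x*y^(2:ℕ)) * b 2 + (-x*y^(2:ℕ) + x^(2:ℕ)*y^(2:ℕ)) * b 3) + ((x*y) * b 1 + (-x*y - x*y^(2:ℕ) + x^(2:ℕ)*y + x^(2:ℕ)*y^(2:ℕ)) * b 2 + (x*y^(2:ℕ) - x^(2:ℕ)*y - x^(2:ℕ)*y^(2:ℕ) + x^(3:ℕ)*y^(2:ℕ)) * b 3) + ((x*y^(2:ℕ)) * b 1 + (-x*y^(2:ℕ) - x*y^(3:ℕ) + x^(2:ℕ)*y^(2:ℕ) + x^(2:ℕ)*y^(3:ℕ)) * b 2 + (x*y^(3:ℕ) - x^(2:ℕ)*y^(2:ℕ) - x^(2:ℕ)*y^(3:ℕ) + x^(3:ℕ)*y^(3:ℕ)) * b 3) + (b 0 + (-1 - x*y + x^(2:ℕ) - x*y^(2:ℕ) + x^(2:ℕ)*y + x^(2:ℕ)*y^(2:ℕ)) * b 1 + (x*y - x^(2:ℕ) + x*y^(2:ℕ) - 2*x^(2:ℕ)*y + x*y^(3:ℕ) - 2*x^(2:ℕ)*y^(2:ℕ)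 + x^(3:ℕ)*y - x^(2:ℕ)*y^(3:ℕ) + x^(3:ℕ)*y^(2:ℕ) + x^(3:ℕ)*y^(3:ℕ)) * b 2 + (x^(2:ℕ)*y - x*y^(3:ℕ) + x^(2:ℕ)*y^(2:ℕ) - x^(3:ℕ)*y + x^(2:ℕ)*y^(3:ℕ) - x^(3:ℕ)*y^(2:ℕ) - x^(3:ℕ)*y^(3:ℕ) + x^(4:ℕ)*y^(3:ℕ)) * b 3) = b 0 + (-1 + x + x^(2:ℕ) + x^(2:ℕ)*y + x^(2:ℕ)*y^(2:ℕ)) * b 1 + (x^(3:ℕ)*y + x^(3:ℕ)*y^(2:ℕ) + x^(3:ℕ)*y^(3:ℕ)) * b 2 + (x^(4:ℕ)*y^(3:ℕ)) * b 3
    ring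
  · show ((x) * b 3) + (b 1 + (-1 + x) * b 2 + (-x + x^(2:ℕ)) * b 3) + ((x^(2:ℕ)*y) * b 3) + ((x) * b 1 + (-x + x^(2:ℕ)) * b 2 + (-x^(2:ℕ) + x^(3:ℕ)*y) * b 3) + ((x^(2:ℕ)*y^(2:ℕ)) * b 3) + ((x*y) * b 1 + (-x*y + x^(2:ℕ)*y) * b 2 + (-x^(2:ℕ)*y + x^(3:ℕ)*y^(2:ℕ)) * b 3) + ((x^(3:ℕ)*y^(3:ℕ)) * b 3) + ((x^(2:ℕ)*y) * b 1 + (-x^(2:ℕ)*y + x^(3:ℕ)*y) * b 2 + (-x^(3:ℕ)*y + x^(4:ℕ)*y^(3:ℕ)) * b 3) = (1 + x + x*y + x^(2:ℕ)*y) * b 1 + (-1 - x*y + x^(2:ℕ) + x^(3:ℕ)*y) * b 2 + (x^(2:ℕ)*y^(2:ℕ) + x^(3:ℕ)*y^(2:ℕ) + x^(3:ℕ)*y^(3:ℕ) + x^(4:ℕ)*y^(3:ℕ)) * b 3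
    ring
  · show (b 1 + (-1 + x) * b 3) + ((x) * b 2 + (-x + x^(2:ℕ)) * b 3) + ((x*y) * b 2 + (-x*y + x^(2:ℕ)*y) * b 3) + ((x^(3:ℕ)*y) * b 3) + ((x*y^(2:ℕ)) * b 2 + (-x*y^(2:ℕ) + x^(2:ℕ)*y^(2:ℕ)) * b 3) + ((x^(3:ℕ)*y^(2:ℕ)) * b 3) + ((x^(3:ℕ)*y^(3:ℕ)) * b 3) + ((x^(4:ℕ)*y^(3:ℕ)) * b 4) = b 1 + (x + x*y + x*y^(2:ℕ)) * b 2 + (-1 - x*y + x^(2:ℕ) - x*y^(2:ℕ) + x^(2:ℕ)*y + x^(2:ℕ)*y^(2:ℕ) + x^(3:ℕ)*y + x^(3:ℕ)*y^(2:ℕ) + x^(3:ℕ)*y^(3:ℕ)) * b 3 + (x^(4:ℕ)*y^(3:ℕ)) * b 4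
    ring
  · show (b 2 + (-1 + x) * b 3) + (b 1 + (-1 + x) * b 2 + (-x + x^(2:ℕ)) * b 3) + ((x^(2:ℕ)*y) * b 3) + ((x*y) * b 2 + (-x*y + x^(3:ℕ)*y) * b 3) + ((x^(2:ℕ)*y^(2:ℕ)) * b 3) + ((x*y^(2:ℕ)) * b 2 + (-x*y^(2:ℕ) + x^(3:ℕ)*y^(2:ℕ)) * b 3) + ((x^(3:ℕ)*y^(3:ℕ)) * b 4) + ((x^(3:ℕ)*y^(3:ℕ)) * b 3 + (-x^(3:ℕ)*y^(3:ℕ) + x^(4:ℕ)*y^(3:ℕ)) * b 4) = b 1 + (x + x*y + x*y^(2:ℕ)) * b 2 + (-1 - x*y + x^(2:ℕ) - x*y^(2:ℕ) + x^(2:ℕ)*y + x^(2:ℕ)*y^(2:ℕ) + x^(3:ℕ)*y + x^(3:ℕ)*y^(2:ℕ) + x^(3:ℕ)*y^(3:ℕ)) * b 3 + (x^(4:ℕ)*y^(3:ℕ)) * b 4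
    ring
  · show ((x) * b 3) + ((x^(2:ℕ)) * b 3) + (b 1 + (-1 + x) * b 2 + (-x + x^(2:ℕ)*y) * b 3) + ((x) * b 1 + (-x + x^(2:ℕ)) * b 2 + (-x^(2:ℕ) + x^(3:ℕ)*y) * b 3) + ((x^(2:ℕ)*y^(2:ℕ)) * b 3) + ((x^(3:ℕ)*y^(2:ℕ)) * b 3) + ((x*y) * b 1 + (-x*y + x^(2:ℕ)*y) * b 2 + (-x^(2:ℕ)*y + x^(3:ℕ)*y^(3:ℕ)) * b 3) + ((x^(2:ℕ)*y) * b 1 + (-x^(2:ℕ)*y + x^(3:ℕ)*y) * b 2 + (-x^(3:ℕ)*y + x^(4:ℕ)*y^(3:ℕ)) * b 3) = (1 + x + x*y + x^(2:ℕ)*y) * b 1 + (-1 - x*y + x^(2:ℕ) + x^(3:ℕ)*y) * b 2 + (x^(2:ℕ)*y^(2:ℕ) + x^(3:ℕ)*y^(2:ℕ) + x^(3:ℕ)*y^(3:ℕ) + x^(4:ℕ)*y^(3:ℕ)) * b 3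
    ring
  · show (b 2 + (-1 + x) * b 3) + ((x^(2:ℕ)) * b 3) + (b 1 + (-1 + x) * b 2 + (-x + x^(2:ℕ)*y) * b 3) + ((x*y) * b 2 + (-x*y + x^(3:ℕ)*y) * b 3) + ((x^(2:ℕ)*y^(2:ℕ)) * b 3) + ((x^(3:ℕ)*y^(2:ℕ)) * b 4) + ((x*y^(2:ℕ)) * b 2 + (-x*y^(2:ℕ) + x^(3:ℕ)*y^(2:ℕ)) * b 3 + (-x^(3:ℕ)*y^(2:ℕ) + x^(3:ℕ)*y^(3:ℕ)) * b 4) + ((x^(3:ℕ)*y^(3:ℕ)) * b 3 + (-x^(3:ℕ)*y^(3:ℕ) + x^(4:ℕ)*y^(3:ℕ)) * b 4) = b 1 + (x + x*y + x*y^(2:ℕ)) * b 2 + (-1 - x*y + x^(2:ℕ) - x*y^(2:ℕ) + x^(2:ℕ)*y + x^(2:ℕ)*y^(2:ℕ) + x^(3:ℕ)*y + x^(3:ℕ)*y^(2:ℕ) + x^(3:ℕ)*y^(3:ℕ)) * b 3 + (x^(4:ℕ)*y^(3:ℕ)) * b 4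
    ring
  · show ((x) * b 3) + ((x^(2:ℕ)) * b 3) + ((x^(2:ℕ)*y) * b 3) + ((x^(3:ℕ)*y) * b 3) + (b 1 + (-1 + x) * b 2 + (-x + x^(2:ℕ)*y^(2:ℕ)) * b 3) + ((x) * b 1 + (-x + x^(2:ℕ)) * b 2 + (-x^(2:ℕ) + x^(3:ℕ)*y^(2:ℕ)) * b 3) + ((x*y) * b 1 + (-x*y + x^(2:ℕ)*y) * b 2 + (-x^(2:ℕ)*y + x^(3:ℕ)*y^(3:ℕ)) * b 3) + ((x^(2:ℕ)*y) * b 1 + (-x^(2:ℕ)*y + x^(3:ℕ)*y) * b 2 + (-x^(3:ℕ)*y + x^(4:ℕ)*y^(3:ℕ)) * b 3) = (1 + x + x*y + x^(2:ℕ)*y) * b 1 + (-1 - x*y + x^(2:ℕ) + x^(3:ℕ)*y) * b 2 + (x^(2:ℕ)*y^(2:ℕ) + x^(3:ℕ)*y^(2:ℕ) + x^(3:ℕ)*y^(3:ℕ) + x^(4:ℕ)*y^(3:ℕ)) * b 3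
    ring
  · show ((x) * b 3) + (b 2 + (-1 + x^(2:ℕ)) * b 3) + ((y) * b 2 + (-y + x^(2:ℕ)*y) * b 3) + (b 1 + (-1 - y + x + x*y) * b 2 + (y - x - x*y + x^(3:ℕ)*y) * b 3) + ((x^(2:ℕ)*y^(2:ℕ)) * b 4) + ((x^(2:ℕ)*y^(2:ℕ)) * b 3 + (-x^(2:ℕ)*y^(2:ℕ) + x^(3:ℕ)*y^(2:ℕ)) * b 4) + ((x^(2:ℕ)*y^(3:ℕ)) * b 3 + (-x^(2:ℕ)*y^(3:ℕ) + x^(3:ℕ)*y^(3:ℕ)) * b 4) + ((x*y^(2:ℕ)) * b 2 + (-x*y^(2:ℕ) - x^(2:ℕ)*y^(3:ℕ) + x^(3:ℕ)*y^(2:ℕ) + x^(3:ℕ)*y^(3:ℕ)) * b 3 + (x^(2:ℕ)*y^(3:ℕ) - x^(3:ℕ)*y^(2:ℕ) - x^(3:ℕ)*y^(3:ℕ) + x^(4:ℕ)*y^(3:ℕ)) * b 4) = b 1 + (x + x*y + x*y^(2:ℕ)) * b 2 + (-1 - x*y + x^(2:ℕ) - x*y^(2:ℕ) + x^(2:ℕ)*y + x^(2:ℕ)*y^(2:ℕ) + x^(3:ℕ)*y + x^(3:ℕ)*y^(2:ℕ) + x^(3:ℕ)*y^(3:ℕ)) * b 3 + (x^(4:ℕ)*y^(3:ℕ)) * b 4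
    ring
  · show (b 2 + (-1 + x) * b 3) + ((x^(2:ℕ)) * b 3) + ((x^(2:ℕ)*y) * b 3) + ((x^(3:ℕ)*y) * b 4) + (b 1 + (-1 + x) * b 2 + (-x + x^(2:ℕ)*y^(2:ℕ)) * b 3) + ((x*y) * b 2 + (-x*y + x^(3:ℕ)*y) * b 3 + (-x^(3:ℕ)*y + x^(3:ℕ)*y^(2:ℕ)) * b 4) + ((x*y^(2:ℕ)) * b 2 + (-x*y^(2:ℕ) + x^(3:ℕ)*y^(2:ℕ)) * b 3 + (-x^(3:ℕ)*y^(2:ℕ) + x^(3:ℕ)*y^(3:ℕ)) * b 4) + ((x^(3:ℕ)*y^(3:ℕ)) * b 3 + (-x^(3:ℕ)*y^(3:ℕ) + x^(4:ℕ)*y^(3:ℕ)) * b 4) = b 1 + (x + x*y + x*y^(2:ℕ)) * b 2 + (-1 - x*y + x^(2:ℕ) - x*y^(2:ℕ) + x^(2:ℕ)*y + x^(2:ℕ)*y^(2:ℕ) + x^(3:ℕ)*y + x^(3:ℕ)*y^(2:ℕ) + x^(3:ℕ)*y^(3:ℕ)) * b 3 + (x^(4:ℕ)*y^(3:ℕ)) * b 4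
    ring
  · show ((x) * b 3) + (b 2 + (-1 + x^(2:ℕ)) * b 3) + ((x^(2:ℕ)*y) * b 4) + ((x^(2:ℕ)*y) * b 3 + (-x^(2:ℕ)*y + x^(3:ℕ)*y) * b 4) + ((y) * b 2 + (-y + x^(2:ℕ)*y) * b 3 + (-x^(2:ℕ)*y + x^(2:ℕ)*y^(2:ℕ)) * b 4) + (b 1 + (-1 - y + x + x*y) * b 2 + (y - x - x*y - x^(2:ℕ)*y + x^(2:ℕ)*y^(2:ℕ) + x^(3:ℕ)*y) * b 3 + (x^(2:ℕ)*y - x^(2:ℕ)*y^(2:ℕ) - x^(3:ℕ)*y + x^(3:ℕ)*y^(2:ℕ)) * b 4) + ((x^(2:ℕ)*y^(3:ℕ)) * b 3 + (-x^(2:ℕ)*y^(3:ℕ) + x^(3:ℕ)*y^(3:ℕ)) * b 4) + ((x*y^(2:ℕ)) * b 2 + (-x*y^(2:ℕ) - x^(2:ℕ)*y^(3:ℕ) + x^(3:ℕ)*y^(2:ℕ) + x^(3:ℕ)*y^(3:ℕ)) * b 3 + (x^(2:ℕ)*y^(3:ℕ) - x^(3:ℕ)*y^(2:ℕ) - x^(3:ℕ)*y^(3:ℕ) + x^(4:ℕ)*y^(3:ℕ)) * b 4) = b 1 + (x + x*y + x*y^(2:ℕ)) * b 2 + (-1 - x*y + x^(2:ℕ) - x*y^(2:ℕ) + x^(2:ℕ)*y + x^(2:ℕ)*y^(2:ℕ)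 + x^(3:ℕ)*y + x^(3:ℕ)*y^(2:ℕ) + x^(3:ℕ)*y^(3:ℕ)) * b 3 + (x^(4:ℕ)*y^(3:ℕ)) * b 4
    ring
  · show ((x) * b 3) + ((x^(2:ℕ)) * b 4) + (b 2 + (-1 + x^(2:ℕ)) * b 3 + (-x^(2:ℕ) + x^(2:ℕ)*y) * b 4) + ((x^(2:ℕ)*y) * b 3 + (-x^(2:ℕ)*y + x^(3:ℕ)*y) * b 4) + ((y) * b 2 + (-y + x^(2:ℕ)*y) * b 3 + (-x^(2:ℕ)*y + x^(2:ℕ)*y^(2:ℕ)) * b 4) + ((x^(2:ℕ)*y^(2:ℕ)) * b 3 + (-x^(2:ℕ)*y^(2:ℕ) + x^(3:ℕ)*y^(2:ℕ)) * b 4) + (b 1 + (-1 - y + x + x*y) * b 2 + (y - x - x*y - x^(2:ℕ)*y + x^(3:ℕ)*y + x^(2:ℕ)*y^(3:ℕ)) * b 3 + (x^(2:ℕ)*y - x^(3:ℕ)*y - x^(2:ℕ)*y^(3:ℕ) + x^(3:ℕ)*y^(3:ℕ)) * b 4) + ((x*y^(2:ℕ)) * b 2 + (-x*y^(2:ℕ) - x^(2:ℕ)*y^(3:ℕ) + x^(3:ℕ)*y^(2:ℕ) + x^(3:ℕ)*y^(3:ℕ)) * b 3 + (x^(2:ℕ)*y^(3:ℕ) - x^(3:ℕ)*y^(2:ℕ) - x^(3:ℕ)*y^(3:ℕ) + x^(4:ℕ)*y^(3:ℕ))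 * b 4) = b 1 + (x + x*y + x*y^(2:ℕ)) * b 2 + (-1 - x*y + x^(2:ℕ) - x*y^(2:ℕ) + x^(2:ℕ)*y + x^(2:ℕ)*y^(2:ℕ) + x^(3:ℕ)*y + x^(3:ℕ)*y^(2:ℕ) + x^(3:ℕ)*y^(3:ℕ)) * b 3 + (x^(4:ℕ)*y^(3:ℕ)) * b 4
    ring
  · show ((x) * b 4) + ((x) * b 3 + (-x + x^(2:ℕ)) * b 4) + ((x*y) * b 3 + (-x*y + x^(2:ℕ)*y) * b 4) + (b 2 + (-1 - x*y + x^(2:ℕ) + x^(2:ℕ)*y) * b 3 + (x*y - x^(2:ℕ) - x^(2:ℕ)*y + x^(3:ℕ)*y) * b 4) + ((x*y^(2:ℕ)) * b 3 + (-x*y^(2:ℕ) + x^(2:ℕ)*y^(2:ℕ)) * b 4) + ((y) * b 2 + (-y - x*y^(2:ℕ) + x^(2:ℕ)*y + x^(2:ℕ)*y^(2:ℕ)) * b 3 + (x*y^(2:ℕ) - x^(2:ℕ)*y - x^(2:ℕ)*y^(2:ℕ) + x^(3:ℕ)*y^(2:ℕ)) * b 4) + ((y^(2:ℕ)) * b 2 + (-y^(2:ℕ) - x*y^(3:ℕ) + x^(2:ℕ)*y^(2:ℕ) + x^(2:ℕ)*y^(3:ℕ)) * b 3 + (x*y^(3:ℕ) - x^(2:ℕ)*y^(2:ℕ) - x^(2:ℕ)*y^(3:ℕ)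 + x^(3:ℕ)*y^(3:ℕ)) * b 4) + (b 1 + (-1 - y + x - y^(2:ℕ) + x*y + x*y^(2:ℕ)) * b 2 + (y - x + y^(2:ℕ) - x*y - x*y^(2:ℕ) - x^(2:ℕ)*y + x*y^(3:ℕ) - x^(2:ℕ)*y^(2:ℕ) + x^(3:ℕ)*y - x^(2:ℕ)*y^(3:ℕ) + x^(3:ℕ)*y^(2:ℕ) + x^(3:ℕ)*y^(3:ℕ)) * b 3 + (x^(2:ℕ)*y - x*y^(3:ℕ) + x^(2:ℕ)*y^(2:ℕ) - x^(3:ℕ)*y + x^(2:ℕ)*y^(3:ℕ) - x^(3:ℕ)*y^(2:ℕ) - x^(3:ℕ)*y^(3:ℕ) + x^(4:ℕ)*y^(3:ℕ)) * b 4) = b 1 + (x + x*y + x*y^(2:ℕ)) * b 2 + (-1 - x*y + x^(2:ℕ) - x*y^(2:ℕ) + x^(2:ℕ)*y + x^(2:ℕ)*y^(2:ℕ) + x^(3:ℕ)*y + x^(3:ℕ)*y^(2:ℕ) + x^(3:ℕ)*y^(3:ℕ)) * b 3 + (x^(4:ℕ)*y^(3:ℕ)) * b 4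
    ring
  · show (b 3 + (-1 + x) * b 4) + ((x) * b 3 + (-x + x^(2:ℕ)) * b 4) + ((x*y) * b 3 + (-x*y + x^(2:ℕ)*y) * b 4) + ((x^(2:ℕ)*y) * b 3 + (-x^(2:ℕ)*y + x^(3:ℕ)*y) * b 4) + ((x*y^(2:ℕ)) * b 3 + (-x*y^(2:ℕ) + x^(2:ℕ)*y^(2:ℕ)) * b 4) + ((x^(2:ℕ)*y^(2:ℕ)) * b 3 + (-x^(2:ℕ)*y^(2:ℕ) + x^(3:ℕ)*y^(2:ℕ)) * b 4) + ((x^(2:ℕ)*y^(3:ℕ)) * b 3 + (-x^(2:ℕ)*y^(3:ℕ) + x^(3:ℕ)*y^(3:ℕ)) * b 4) + ((x^(3:ℕ)*y^(3:ℕ)) * b 3 + (-x^(3:ℕ)*y^(3:ℕ) + x^(4:ℕ)*y^(3:ℕ)) * b 4) = (1 + x + x*y + x*y^(2:ℕ) + x^(2:ℕ)*y + x^(2:ℕ)*y^(2:ℕ) + x^(2:ℕ)*y^(3:ℕ) + x^(3:ℕ)*y^(3:ℕ)) * b 3 + (-1 - x*y + x^(2:ℕ) - x*y^(2:ℕ) + x^(3:ℕ)*y - x^(2:ℕ)*y^(3:ℕ) + x^(3:ℕ)*y^(2:ℕ) + x^(4:ℕ)*y^(3:ℕ)) * b 4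
    ring

include h0 h1 h2 h3 in
/-- **The operator on class functions.** -/
theorem sumD (s : Fin 24) : (tab hA).tauD q DD (fun u => b (clsT u)) s = RR x y b (clsT s) := by
  rw [← sumV (x := x) (y := y) b s, base (x := x) (y := y) b]
  have e1 : (tab hA).tauW q [0] (V0 x y b) = V1 x y b := step1 hA h0 b
  have e2 : (tab hA).tauW q [1, 0] (V0 x y b) = V2 x y b :=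
    (congrArg ((tab hA).tau q 1) e1).trans (step2 hA h1 b)
  have e3 : (tab hA).tauW q [2, 1, 0] (V0 x y b) = V3 x y b :=
    (congrArg ((tab hA).tau q 2) e2).trans (step3 hA h2 b)
  have e4 : (tab hA).tauW q [1, 2, 1, 0] (V0 x y b) = V4 x y b :=
    (congrArg ((tab hA).tau q 1) e3).trans (step4 hA h1 b)
  have e5 : (tab hA).tauW q [3, 2, 1, 0] (V0 x y b) = V5 x y b :=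
    (congrArg ((tab hA).tau q 3) e3).trans (step5 hA h3 b)
  have e6 : (tab hA).tauW q [3, 1, 2, 1, 0] (V0 x y b) = V6 x y b :=
    (congrArg ((tab hA).tau q 3) e4).trans (step6 hA h3 b)
  have e7 : (tab hA).tauW q [2, 3, 1, 2, 1, 0] (V0 x y b) = V7 x y b :=
    (congrArg ((tab hA).tau q 2) e6).trans (step7 hA h2 b)
  have e8 : (tab hA).tauW q [1, 2, 3, 1, 2, 1, 0] (V0 x y b) = V8 x y b :=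
    (congrArg ((tab hA).tau q 1) e7).trans (step8 hA h1 b)
  show (DD.map fun w => (tab hA).tauW q w (V0 x y b) s).sum = _
  simp only [DD, List.map_cons, List.map_nil, List.sum_cons, List.sum_nil, e1, e2, e3, e4, e5, e6, e7, e8]
  ring

end Cfsg.Agent.H654.Two.F4Tab
end

-- part: H654/Two/F4Char
section
/-!
# Three characters of `F₄(q)` in the permutation character on the cosets of `P_0` (helper654, task 838)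

`exists_d1`, `exists_d2`, `exists_d3`: the degrees
`q (q+1)² (q²-q+1)² (q⁴+1) / 2`, `q² (q²+q+1)² (q²-q+1)² (q⁴-q²+1)`, `q³ (q²+1)² (q⁴+1) (q⁴-q²+1)`.
-/

set_option autoImplicit false
set_option linter.unusedSectionVars false

namespace Cfsg.Agent.H654.Two.F4Char

open Cfsg.Agent.H967.Sph Cfsg.Agent.H654.Two.F4Tab
open CoxeterSystem Cfsg.Agent.ChevalleyStructure.CoxeterGeom Cfsg.Agent.Tits.Roots Cfsg.Agent.Tits.Core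
  Cfsg.Agent.Nodes.Reps Cfsg.Agent.Nodes.BNOf Cfsg.Agent.Nodes.Bruhat Cfsg.Agent.Nodes.LeviDec

/-- the lengths -/
def lenT : Fin 24 → ℕ := ![0, 1, 2, 3, 4, 4, 5, 5, 6, 6, 7, 7, 8, 8, 9, 9, 10, 10, 11, 11, 12, 13, 14, 15]

theorem lenT_st : ∀ i s, 0 < vecT s i → lenT (stT i s) = lenT s + 1 := by decide +kernel

theorem sum_wt (q : ℚ) (g : Fin 5 → ℚ) : ∑ s : Fin 24, q ^ lenT s * g (clsT s) =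
    g 0 + (q + q ^ (2:ℕ) + q ^ (3:ℕ) + 2 * q ^ (4:ℕ) + q ^ (5:ℕ) + q ^ (6:ℕ) + q ^ (7:ℕ)) * g 1 +
      (q ^ (5:ℕ) + q ^ (6:ℕ) + q ^ (7:ℕ) + q ^ (8:ℕ) + q ^ (9:ℕ) + q ^ (10:ℕ)) * g 2 +
      (q ^ (8:ℕ) + q ^ (9:ℕ) + q ^ (10:ℕ) + 2 * q ^ (11:ℕ) + q ^ (12:ℕ) + q ^ (13:ℕ) + q ^ (14:ℕ)) * g 3 + q ^ (15:ℕ) * g 4 := by
  simp only [Fin.sum_univ_succ, Fin.sum_univ_zero]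
  show q ^ (0:ℕ) * g 0 + (q ^ (1:ℕ) * g 1 + (q ^ (2:ℕ) * g 1 + (q ^ (3:ℕ) * g 1 + (q ^ (4:ℕ) * g 1 + (q ^ (4:ℕ) * g 1 + (q ^ (5:ℕ) * g 2 +
    (q ^ (5:ℕ) * g 1 + (q ^ (6:ℕ) * g 2 + (q ^ (6:ℕ) * g 1 + (q ^ (7:ℕ) * g 2 + (q ^ (7:ℕ) * g 1 + (q ^ (8:ℕ) * g 2 + (q ^ (8:ℕ) * g 3 +
    (q ^ (9:ℕ) * g 3 + (q ^ (9:ℕ) * g 2 + (q ^ (10:ℕ) * g 3 + (q ^ (10:ℕ) * g 2 + (q ^ (11:ℕ) * g 3 + (q ^ (11:ℕ) * g 3 + (q ^ (12:ℕ) * g 3 +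
    (q ^ (13:ℕ) * g 3 + (q ^ (14:ℕ) * g 3 + (q ^ (15:ℕ) * g 4 + 0))))))))))))))))))))))) = _
  ring

section rows

variable (x : ℚ) (b : Fin 5 → ℚ)

theorem RR0 : RR x x b 0 = (x + x ^ (2:ℕ) + x ^ (3:ℕ) + 2 * x ^ (4:ℕ) + x ^ (5:ℕ) + x ^ (6:ℕ) + x ^ (7:ℕ)) * b 1 := by
  show (x + x^(2:ℕ) + x^(2:ℕ)*x + x^(2:ℕ)*x^(2:ℕ) + x^(3:ℕ)*x + x^(3:ℕ)*x^(2:ℕ) + x^(3:ℕ)*x^(3:ℕ) + x^(4:ℕ)*x^(3:ℕ)) * b 1 = _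
  ring

theorem RR1 : RR x x b 1 = b 0 + (-1 + x + x ^ (2:ℕ) + x ^ (3:ℕ) + x ^ (4:ℕ)) * b 1 + (x ^ (4:ℕ) + x ^ (5:ℕ) + x ^ (6:ℕ)) * b 2 +
    x ^ (7:ℕ) * b 3 := by
  show b 0 + (-1 + x + x^(2:ℕ) + x^(2:ℕ)*x + x^(2:ℕ)*x^(2:ℕ)) * b 1 + (x^(3:ℕ)*x + x^(3:ℕ)*x^(2:ℕ) + x^(3:ℕ)*x^(3:ℕ)) * b 2 + (x^(4:ℕ)*x^(3:ℕ)) * b 3 = _
  ring

theorem RR2 : RR x x b 2 = (1 + x + x ^ (2:ℕ) + x ^ (3:ℕ)) * b 1 + (x ^ (4:ℕ) - 1) * b 2 +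
    (x ^ (4:ℕ) + x ^ (5:ℕ) + x ^ (6:ℕ) + x ^ (7:ℕ)) * b 3 := by
  show (1 + x + x*x + x^(2:ℕ)*x) * b 1 + (-1 - x*x + x^(2:ℕ) + x^(3:ℕ)*x) * b 2 +
    (x^(2:ℕ)*x^(2:ℕ) + x^(3:ℕ)*x^(2:ℕ) + x^(3:ℕ)*x^(3:ℕ) + x^(4:ℕ)*x^(3:ℕ)) * b 3 = _
  ring

theorem RR3 : RR x x b 3 = b 1 + (x + x ^ (2:ℕ) + x ^ (3:ℕ)) * b 2 + (-1 + 2 * x ^ (4:ℕ) + x ^ (5:ℕ) + x ^ (6:ℕ)) * b 3 +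
    x ^ (7:ℕ) * b 4 := by
  show b 1 + (x + x*x + x*x^(2:ℕ)) * b 2 + (-1 - x*x + x^(2:ℕ) - x*x^(2:ℕ) + x^(2:ℕ)*x + x^(2:ℕ)*x^(2:ℕ) + x^(3:ℕ)*x + x^(3:ℕ)*x^(2:ℕ) + x^(3:ℕ)*x^(3:ℕ)) * b 3 +
    (x^(4:ℕ)*x^(3:ℕ)) * b 4 = _
  ring

theorem RR4 : RR x x b 4 = (1 + x + x ^ (2:ℕ) + 2 * x ^ (3:ℕ) + x ^ (4:ℕ) + x ^ (5:ℕ) + x ^ (6:ℕ)) * b 3 +
    (-1 - x ^ (3:ℕ) + x ^ (4:ℕ) + x ^ (7:ℕ)) * b 4 := by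
  show (1 + x + x*x + x*x^(2:ℕ) + x^(2:ℕ)*x + x^(2:ℕ)*x^(2:ℕ) + x^(2:ℕ)*x^(3:ℕ) + x^(3:ℕ)*x^(3:ℕ)) * b 3 +
    (-1 - x*x + x^(2:ℕ) - x*x^(2:ℕ) + x^(3:ℕ)*x - x^(2:ℕ)*x^(3:ℕ) + x^(3:ℕ)*x^(2:ℕ) + x^(4:ℕ)*x^(3:ℕ)) * b 4 = _
  ring

/-- the eigenspace is one-dimensional -/
theorem eig_unique {x : ℚ} (hx : 0 < x) {θ : ℚ} (hθ : x ^ (4:ℕ) - 1 - θ < x * (1 + x) * (1 + x ^ (2:ℕ)) * (1 + x + x ^ (2:ℕ)))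
    {a b : Fin 5 → ℚ} (ha : a 0 = 1) (ea : ∀ c, RR x x a c = θ * a c) (eb : ∀ c, RR x x b c = θ * b c) (c : Fin 5) :
    b c = b 0 * a c := by
  have a0 := ea 0
  have a1 := ea 1
  have a2 := ea 2
  have a3 := ea 3
  have b0 := eb 0
  have b1 := eb 1
  have b2 := eb 2
  have b3 := eb 3
  rw [RR0] at a0 b0
  rw [RR1] at a1 b1
  rw [RR2] at a2 b2
  rw [RR3] at a3 b3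
  have d1 : b 1 = b 0 * a 1 := by
    have h : (x + x ^ (2:ℕ) + x ^ (3:ℕ) + 2 * x ^ (4:ℕ) + x ^ (5:ℕ) + x ^ (6:ℕ) + x ^ (7:ℕ)) * (b 1 - b 0 * a 1) = 0 := by
      rw [ha] at a0
      linear_combination b0 - b 0 * a0
    rcases mul_eq_zero.1 h with h | h
    · exact absurd h (by positivity)
    · linarith only [h]
  have e3 : x ^ (3:ℕ) * (b 3 - b 0 * a 3) = - (1 + x + x ^ (2:ℕ)) * (b 2 - b 0 * a 2) := by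
    have h : x ^ (4:ℕ) * (x ^ (3:ℕ) * (b 3 - b 0 * a 3) + (1 + x + x ^ (2:ℕ)) * (b 2 - b 0 * a 2)) = 0 := by
      rw [ha] at a1
      linear_combination b1 - b 0 * a1 - (-1 + x + x ^ (2:ℕ) + x ^ (3:ℕ) + x ^ (4:ℕ) - θ) * d1
    rcases mul_eq_zero.1 h with h | h
    · exact absurd h (by positivity)
    · linear_combination h
  have d2 : b 2 = b 0 * a 2 := by
    have h : (x * (1 + x) * (1 + x ^ (2:ℕ)) * (1 + x + x ^ (2:ℕ)) - (x ^ (4:ℕ) - 1 - θ)) * (b 2 - b 0 * a 2) = 0 := by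
      linear_combination -(b2 - b 0 * a2) + (1 + x + x ^ (2:ℕ) + x ^ (3:ℕ)) * d1 + (x * (1 + x) * (1 + x ^ (2:ℕ))) * e3
    rcases mul_eq_zero.1 h with h | h
    · linarith only [hθ, h]
    · linarith only [h]
  have d3 : b 3 = b 0 * a 3 := by
    have h : x ^ (3:ℕ) * (b 3 - b 0 * a 3) = 0 := by rw [e3, d2]; ring
    rcases mul_eq_zero.1 h with h | h
    · exact absurd h (by positivity)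
    · linarith only [h]
  have d4 : b 4 = b 0 * a 4 := by
    have h : x ^ (7:ℕ) * (b 4 - b 0 * a 4) = 0 := by
      linear_combination b3 - b 0 * a3 - d1 - (x + x ^ (2:ℕ) + x ^ (3:ℕ)) * d2 -
        (-1 + 2 * x ^ (4:ℕ) + x ^ (5:ℕ) + x ^ (6:ℕ) - θ) * d3
    rcases mul_eq_zero.1 h with h | h
    · exact absurd h (by positivity)
    · linarith only [h]
  fin_cases c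
  · show b 0 = b 0 * a 0
    rw [ha, mul_one]
  · exact d1
  · exact d2
  · exact d3
  · exact d4

end rows

universe u

section main

variable {W : Type*} {Y : Type u} [Group W] [Finite W] [Group Y] [Finite Y]
    {M : CoxeterMatrix (Fin 4)} {cs : CoxeterSystem M W} {A : Fin 4 → Fin 4 → ℤ} {h : IsCartan M A} {p : ℕ}
    {T : Subgroup Y} {n : Fin 4 → Y} {X : (Fin 4 → ℤ) → Subgroup Y} (R : RGD cs h p T n X) (hG : GG cs h T X = ⊤)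
    (hA : ∀ i k, A i k = AA i k) {q : ℕ} (hq2 : 2 ≤ q) (hq : ∀ i, Nat.card (X (sr i)) = q)

include R hG hA hq hq2

theorem exists_of (θ : ℚ) (hθ : (q : ℚ) ^ (4:ℕ) - 1 - θ < q * (1 + q) * (1 + q ^ (2:ℕ)) * (1 + q + q ^ (2:ℕ)))
    (a : Fin 5 → ℚ) (ha : a 0 = 1) (ea : ∀ c, RR q q a c = θ * a c) (d : ℕ)
    (hd : (d : ℚ) * (a 0 ^ (2:ℕ) + (q + q ^ (2:ℕ) + q ^ (3:ℕ) + 2 * q ^ (4:ℕ) + q ^ (5:ℕ) + q ^ (6:ℕ) + q ^ (7:ℕ)) * a 1 ^ (2:ℕ) +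
      (q ^ (5:ℕ) + q ^ (6:ℕ) + q ^ (7:ℕ) + q ^ (8:ℕ) + q ^ (9:ℕ) + q ^ (10:ℕ)) * a 2 ^ (2:ℕ) +
      (q ^ (8:ℕ) + q ^ (9:ℕ) + q ^ (10:ℕ) + 2 * q ^ (11:ℕ) + q ^ (12:ℕ) + q ^ (13:ℕ) + q ^ (14:ℕ)) * a 3 ^ (2:ℕ) + q ^ (15:ℕ) * a 4 ^ (2:ℕ)) =
      1 + (q + q ^ (2:ℕ) + q ^ (3:ℕ) + 2 * q ^ (4:ℕ) + q ^ (5:ℕ) + q ^ (6:ℕ) + q ^ (7:ℕ)) +
      (q ^ (5:ℕ) + q ^ (6:ℕ) + q ^ (7:ℕ) + q ^ (8:ℕ) + q ^ (9:ℕ) + q ^ (10:ℕ)) +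
      (q ^ (8:ℕ) + q ^ (9:ℕ) + q ^ (10:ℕ) + 2 * q ^ (11:ℕ) + q ^ (12:ℕ) + q ^ (13:ℕ) + q ^ (14:ℕ)) + q ^ (15:ℕ)) :
    ∃ χ : Y → ℂ, Cfsg.IsIrrCharacter Y χ ∧ (∀ g, ∃ r : ℚ, χ g = r) ∧ χ 1 = d := by
  have hq0 : (0 : ℚ) < q := by exact_mod_cast (by omega : 0 < q)
  refine exists_char R hG (tab hA) (fun _ => q) hq DD θ a ha ?_ ?_ (fun s => q ^ lenT s) ?_ ?_ d ?_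
  · intro s
    exact (sumD hA rfl rfl rfl rfl a s).trans (ea _)
  · intro b hb c
    refine eig_unique hq0 hθ ha ea (fun c => ?_) c
    obtain ⟨s, hs⟩ : ∃ s, clsT s = c := ⟨crepT c, by revert c; decide⟩
    have h1 : RR q q b (clsT s) = θ * b (clsT s) :=
      (sumD hA (q := fun _ => q) (x := q) (y := q) rfl rfl rfl rfl b s).symm.trans (hb s)
    rw [hs] at h1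
    exact h1
  · show q ^ (0:ℕ) = 1
    exact pow_zero _
  · intro i s his
    show q ^ lenT (stT i s) = q * q ^ lenT s
    rw [lenT_st i s his, pow_succ']
  · have h1 := sum_wt (q : ℚ) (fun c => a c ^ (2:ℕ))
    have h2 := sum_wt (q : ℚ) (fun _ => 1)
    have e1 : ∑ s, ((q ^ lenT s : ℕ) : ℚ) * a ((tab hA).cls s) ^ (2:ℕ) = ∑ s : Fin 24, (q : ℚ) ^ lenT s * a (clsT s) ^ (2:ℕ) :=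
      Finset.sum_congr rfl fun s _ => by rw [Nat.cast_pow]; rfl
    have e2 : ∑ s : Fin 24, ((q ^ lenT s : ℕ) : ℚ) = ∑ s : Fin 24, (q : ℚ) ^ lenT s * 1 :=
      Finset.sum_congr rfl fun s _ => by rw [Nat.cast_pow, mul_one]
    rw [e1, e2, h1, h2]
    simp only [mul_one]
    exact hd

/-- degree `q (q+1)² (q²-q+1)² (q⁴+1) / 2` -/
theorem exists_d1 (d : ℕ) (hd : (d : ℚ) * 2 = q * (q ^ (3:ℕ) + 1) ^ (2:ℕ) * (q ^ (4:ℕ) + 1)) :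
    ∃ χ : Y → ℂ, Cfsg.IsIrrCharacter Y χ ∧ (∀ g, ∃ r : ℚ, χ g = r) ∧ χ 1 = d := by
  have hq0 : (0 : ℚ) < q := by exact_mod_cast (by omega : 0 < q)
  have hq1 : (2 : ℚ) ≤ q := by exact_mod_cast hq2
  refine exists_of R hG hA hq2 hq ((q ^ (2:ℕ) + 1) * (q + 1) * (q ^ (2:ℕ) + q - 1)) ?_
    ![1, (q ^ (2:ℕ) + q - 1) / (q * (q ^ (3:ℕ) + 1)), (q ^ (3:ℕ) - 1) / (q ^ (3:ℕ) * (q ^ (3:ℕ) + 1)),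
      (q ^ (2:ℕ) - q - 1) / (q ^ (4:ℕ) * (q ^ (3:ℕ) + 1)), -1 / q ^ 6] rfl ?_ d ?_
  · have h1 : 0 < (q : ℚ) ^ (2:ℕ) * (1 + q) := by positivity
    linarith only [hq1, mul_pos hq0 hq0, pow_pos hq0 3, pow_pos hq0 4, pow_pos hq0 5, _root_.sq_nonneg (↑q ^ 3 + 1 : ℚ)]
  · intro c
    have h3 : (q : ℚ) ^ (3:ℕ) + 1 ≠ 0 := by positivity
    fin_cases c
    · refine (RR0 _ _).trans ?_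
      show (_ : ℚ) * ((q ^ (2:ℕ) + q - 1) / (q * (q ^ (3:ℕ) + 1))) = _ * 1
      field_simp
      ring
    · refine (RR1 _ _).trans ?_
      show (1 : ℚ) + _ * ((q ^ (2:ℕ) + q - 1) / (q * (q ^ (3:ℕ) + 1))) + _ * ((q ^ (3:ℕ) - 1) / (q ^ (3:ℕ) * (q ^ (3:ℕ) + 1))) +
        _ * ((q ^ (2:ℕ) - q - 1) / (q ^ (4:ℕ) * (q ^ (3:ℕ) + 1))) = _ * ((q ^ (2:ℕ) + q - 1) / (q * (q ^ (3:ℕ) + 1)))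
      field_simp
      ring
    · refine (RR2 _ _).trans ?_
      show (_ : ℚ) * ((q ^ (2:ℕ) + q - 1) / (q * (q ^ (3:ℕ) + 1))) + _ * ((q ^ (3:ℕ) - 1) / (q ^ (3:ℕ) * (q ^ (3:ℕ) + 1))) +
        _ * ((q ^ (2:ℕ) - q - 1) / (q ^ (4:ℕ) * (q ^ (3:ℕ) + 1))) = _ * ((q ^ (3:ℕ) - 1) / (q ^ (3:ℕ) * (q ^ (3:ℕ) + 1)))
      field_simp
      ring
    · refine (RR3 _ _).trans ?_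
      show ((q ^ (2:ℕ) + q - 1) / (q * (q ^ (3:ℕ) + 1)) : ℚ) + _ * ((q ^ (3:ℕ) - 1) / (q ^ (3:ℕ) * (q ^ (3:ℕ) + 1))) +
        _ * ((q ^ (2:ℕ) - q - 1) / (q ^ (4:ℕ) * (q ^ (3:ℕ) + 1))) + _ * (-1 / q ^ (6:ℕ)) = _ * ((q ^ (2:ℕ) - q - 1) / (q ^ (4:ℕ) * (q ^ (3:ℕ) + 1)))
      field_simp
      ring
    · refine (RR4 _ _).trans ?_
      show (_ : ℚ) * ((q ^ (2:ℕ) - q - 1) / (q ^ (4:ℕ) * (q ^ (3:ℕ) + 1))) + _ * (-1 / q ^ (6:ℕ)) = _ * (-1 / q ^ (6:ℕ))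
      field_simp
      ring
  · show (d : ℚ) * ((1 : ℚ) ^ (2:ℕ) + _ * ((q ^ (2:ℕ) + q - 1) / (q * (q ^ (3:ℕ) + 1))) ^ (2:ℕ) +
      _ * ((q ^ (3:ℕ) - 1) / (q ^ (3:ℕ) * (q ^ (3:ℕ) + 1))) ^ (2:ℕ) + _ * ((q ^ (2:ℕ) - q - 1) / (q ^ (4:ℕ) * (q ^ (3:ℕ) + 1))) ^ (2:ℕ) +
      _ * (-1 / q ^ (6:ℕ)) ^ (2:ℕ)) = _
    have h3 : (q : ℚ) ^ (3:ℕ) + 1 ≠ 0 := by positivity
    have hd' : (d : ℚ) = q * (q ^ (3:ℕ) + 1) ^ (2:ℕ) * (q ^ (4:ℕ) + 1) / 2 := by rw [← hd]; ring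
    rw [hd']
    field_simp
    ring

/-- degree `q² (q²+q+1)² (q²-q+1)² (q⁴-q²+1)` -/
theorem exists_d2 (d : ℕ) (hd : (d : ℚ) = q ^ (2:ℕ) * (q ^ (4:ℕ) + q ^ (2:ℕ) + 1) ^ (2:ℕ) * (q ^ (4:ℕ) - q ^ (2:ℕ) + 1)) :
    ∃ χ : Y → ℂ, Cfsg.IsIrrCharacter Y χ ∧ (∀ g, ∃ r : ℚ, χ g = r) ∧ χ 1 = d := by
  have hq0 : (0 : ℚ) < q := by exact_mod_cast (by omega : 0 < q)
  have hq1 : (2 : ℚ) ≤ q := by exact_mod_cast hq2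
  refine exists_of R hG hA hq2 hq (q ^ (4:ℕ) - 1) ?_
    ![1, (q - 1) / (q * (q ^ (3:ℕ) + 1)), -1 / (q ^ (2:ℕ) * (q ^ (4:ℕ) + q ^ (2:ℕ) + 1)),
      -(q - 1) / (q ^ (5:ℕ) * (q ^ (3:ℕ) + 1)), 1 / q ^ 8] rfl ?_ d ?_
  · have h1 : 0 < (q : ℚ) * (1 + q) * (1 + q ^ (2:ℕ)) * (1 + q + q ^ (2:ℕ)) := by (clear * - hq2; positivity)
    linarith only [h1]
  · intro c
    have h3 : (q : ℚ) ^ (3:ℕ) + 1 ≠ 0 := by positivity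
    have h4 : (q : ℚ) ^ (4:ℕ) + q ^ (2:ℕ) + 1 ≠ 0 := by positivity
    fin_cases c
    · refine (RR0 _ _).trans ?_
      show (_ : ℚ) * ((q - 1) / (q * (q ^ (3:ℕ) + 1))) = _ * 1
      field_simp
      ring
    · refine (RR1 _ _).trans ?_
      show (1 : ℚ) + _ * ((q - 1) / (q * (q ^ (3:ℕ) + 1))) + _ * (-1 / (q ^ (2:ℕ) * (q ^ (4:ℕ) + q ^ (2:ℕ) + 1))) +
        _ * (-(q - 1) / (q ^ (5:ℕ) * (q ^ (3:ℕ) + 1))) = _ * ((q - 1) / (q * (q ^ (3:ℕ) + 1)))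
      field_simp
      ring
    · refine (RR2 _ _).trans ?_
      show (_ : ℚ) * ((q - 1) / (q * (q ^ (3:ℕ) + 1))) + _ * (-1 / (q ^ (2:ℕ) * (q ^ (4:ℕ) + q ^ (2:ℕ) + 1))) +
        _ * (-(q - 1) / (q ^ (5:ℕ) * (q ^ (3:ℕ) + 1))) = _ * (-1 / (q ^ (2:ℕ) * (q ^ (4:ℕ) + q ^ (2:ℕ) + 1)))
      field_simp
      ring
    · refine (RR3 _ _).trans ?_
      show ((q - 1) / (q * (q ^ (3:ℕ) + 1)) : ℚ) + _ * (-1 / (q ^ (2:ℕ) * (q ^ (4:ℕ) + q ^ (2:ℕ) + 1))) +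
        _ * (-(q - 1) / (q ^ (5:ℕ) * (q ^ (3:ℕ) + 1))) + _ * (1 / q ^ (8:ℕ)) = _ * (-(q - 1) / (q ^ (5:ℕ) * (q ^ (3:ℕ) + 1)))
      field_simp
      ring
    · refine (RR4 _ _).trans ?_
      show (_ : ℚ) * (-(q - 1) / (q ^ (5:ℕ) * (q ^ (3:ℕ) + 1))) + _ * (1 / q ^ (8:ℕ)) = _ * (1 / q ^ (8:ℕ))
      field_simp
      ring
  · show (d : ℚ) * ((1 : ℚ) ^ (2:ℕ) + _ * ((q - 1) / (q * (q ^ (3:ℕ) + 1))) ^ (2:ℕ) +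
      _ * (-1 / (q ^ (2:ℕ) * (q ^ (4:ℕ) + q ^ (2:ℕ) + 1))) ^ (2:ℕ) + _ * (-(q - 1) / (q ^ (5:ℕ) * (q ^ (3:ℕ) + 1))) ^ (2:ℕ) +
      _ * (1 / q ^ (8:ℕ)) ^ (2:ℕ)) = _
    have h3 : (q : ℚ) ^ (3:ℕ) + 1 ≠ 0 := by positivity
    have h4 : (q : ℚ) ^ (4:ℕ) + q ^ (2:ℕ) + 1 ≠ 0 := by positivity
    rw [hd]
    field_simp
    ring

/-- degree `q³ (q²+1)² (q⁴+1) (q⁴-q²+1)` -/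
theorem exists_d3 (d : ℕ) (hd : (d : ℚ) = q ^ (3:ℕ) * (q ^ (2:ℕ) + 1) ^ (2:ℕ) * (q ^ (4:ℕ) + 1) * (q ^ (4:ℕ) - q ^ (2:ℕ) + 1)) :
    ∃ χ : Y → ℂ, Cfsg.IsIrrCharacter Y χ ∧ (∀ g, ∃ r : ℚ, χ g = r) ∧ χ 1 = d := by
  have hq0 : (0 : ℚ) < q := by exact_mod_cast (by omega : 0 < q)
  have hq1 : (2 : ℚ) ≤ q := by exact_mod_cast hq2
  refine exists_of R hG hA hq2 hq (-(q ^ (3:ℕ) + 1)) ?_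
    ![1, -1 / (q * (q + 1) * (q ^ (2:ℕ) + 1)), 0, 1 / (q ^ (5:ℕ) * (q + 1) * (q ^ (2:ℕ) + 1)), -1 / q ^ 9] rfl ?_ d ?_
  · linarith only [mul_pos hq0 hq0, pow_pos hq0 3, pow_pos hq0 4, pow_pos hq0 5, pow_pos hq0 6]
  · intro c
    have h3 : (q : ℚ) + 1 ≠ 0 := by positivity
    have h4 : (q : ℚ) ^ (2:ℕ) + 1 ≠ 0 := by positivity
    fin_cases c
    · refine (RR0 _ _).trans ?_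
      show (_ : ℚ) * (-1 / (q * (q + 1) * (q ^ (2:ℕ) + 1))) = _ * 1
      field_simp
      ring
    · refine (RR1 _ _).trans ?_
      show (1 : ℚ) + _ * (-1 / (q * (q + 1) * (q ^ (2:ℕ) + 1))) + _ * 0 +
        _ * (1 / (q ^ (5:ℕ) * (q + 1) * (q ^ (2:ℕ) + 1))) = _ * (-1 / (q * (q + 1) * (q ^ (2:ℕ) + 1)))
      field_simp
      ring
    · refine (RR2 _ _).trans ?_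
      show (_ : ℚ) * (-1 / (q * (q + 1) * (q ^ (2:ℕ) + 1))) + _ * 0 +
        _ * (1 / (q ^ (5:ℕ) * (q + 1) * (q ^ (2:ℕ) + 1))) = _ * 0
      field_simp
      ring
    · refine (RR3 _ _).trans ?_
      show (-1 / (q * (q + 1) * (q ^ (2:ℕ) + 1)) : ℚ) + _ * 0 +
        _ * (1 / (q ^ (5:ℕ) * (q + 1) * (q ^ (2:ℕ) + 1))) + _ * (-1 / q ^ (9:ℕ)) = _ * (1 / (q ^ (5:ℕ) * (q + 1) * (q ^ (2:ℕ) + 1)))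
      field_simp
      ring
    · refine (RR4 _ _).trans ?_
      show (_ : ℚ) * (1 / (q ^ (5:ℕ) * (q + 1) * (q ^ (2:ℕ) + 1))) + _ * (-1 / q ^ (9:ℕ)) = _ * (-1 / q ^ (9:ℕ))
      field_simp
      ring
  · show (d : ℚ) * ((1 : ℚ) ^ (2:ℕ) + _ * (-1 / (q * (q + 1) * (q ^ (2:ℕ) + 1))) ^ (2:ℕ) +
      _ * 0 ^ (2:ℕ) + _ * (1 / (q ^ (5:ℕ) * (q + 1) * (q ^ (2:ℕ) + 1))) ^ (2:ℕ) +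
      _ * (-1 / q ^ (9:ℕ)) ^ (2:ℕ)) = _
    have h3 : (q : ℚ) + 1 ≠ 0 := by positivity
    have h4 : (q : ℚ) ^ (2:ℕ) + 1 ≠ 0 := by positivity
    rw [hd]
    field_simp
    ring

end main

end Cfsg.Agent.H654.Two.F4Char
end

-- part: H654/Two/F4Row
section
/-!
# Two characters of degree divisible by `p` for `F₄(q)`, `p ∤ q` and (`p = 2` or `p ∤ q - 1`) (helper654, task 838)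

* `two_cross` : the group `chevF4.group K`;
* `two_F4_cross` : a group isomorphic to it.
-/

set_option autoImplicit false
set_option linter.unusedSectionVars false

namespace Cfsg.Agent.H654.Two.F4Row

open Cfsg.Agent.H53.HC Cfsg.Agent.H53.HC.ExcRows Cfsg.Agent.H53.HC.ExcIM Cfsg.Agent.H35.ExcIdx Cfsg.Lie
  Cfsg.Agent.Nodes.RGDChev Cfsg.Agent.H654.Two.F4Tab Cfsg.Agent.H654.Two.F4Char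
open CoxeterSystem Cfsg.Agent.ChevalleyStructure.CoxeterGeom Cfsg.Agent.Tits.Roots Cfsg.Agent.Tits.Core
  Cfsg.Agent.Tits.Exchange Cfsg.Agent.Nodes.Reps Cfsg.Agent.Nodes.BNOf Cfsg.Agent.Nodes.StabComb

universe u

/-- the degrees -/
def D1 (q : ℕ) : ℕ := q * (q ^ (3:ℕ) + 1) ^ (2:ℕ) * (q ^ (4:ℕ) + 1) / 2
/-- the degrees -/
def D2 (q : ℕ) : ℕ := q ^ (2:ℕ) * (q ^ (4:ℕ) + q ^ (2:ℕ) + 1) ^ (2:ℕ) * (q ^ (4:ℕ) - q ^ (2:ℕ) + 1)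
/-- the degrees -/
def D3 (q : ℕ) : ℕ := q ^ (3:ℕ) * (q ^ (2:ℕ) + 1) ^ (2:ℕ) * (q ^ (4:ℕ) + 1) * (q ^ (4:ℕ) - q ^ (2:ℕ) + 1)

theorem D1_two (q : ℕ) : D1 q * 2 = q * (q ^ (3:ℕ) + 1) ^ (2:ℕ) * (q ^ (4:ℕ) + 1) := by
  apply Nat.div_mul_cancel
  rcases Nat.even_or_odd q with h | h
  · exact Dvd.dvd.mul_right (Dvd.dvd.mul_right h.two_dvd _) _
  · have : Even (q ^ (3:ℕ) + 1) := h.pow.add_one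
    exact Dvd.dvd.mul_right (Dvd.dvd.mul_left (Dvd.dvd.pow this.two_dvd two_ne_zero) _) _

theorem cast_sub (R : Type*) [Ring R] {q : ℕ} (hq : 1 ≤ q) : ((q ^ (4:ℕ) - q ^ (2:ℕ) + 1 : ℕ) : R) = (q : R) ^ (4:ℕ) - q ^ (2:ℕ) + 1 := by
  have h : q ^ (2:ℕ) ≤ q ^ (4:ℕ) := Nat.pow_le_pow_right hq (by norm_num)
  rw [Nat.cast_add, Nat.cast_sub h, Nat.cast_pow, Nat.cast_pow, Nat.cast_one]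

theorem cast_D1 {q : ℕ} (R : Type*) [CommRing R] : (D1 q : R) * 2 = (q : R) * (q ^ (3:ℕ) + 1) ^ (2:ℕ) * (q ^ (4:ℕ) + 1) := by
  have h := congrArg (Nat.cast (R := R)) (D1_two q)
  push_cast at h
  exact h

theorem cast_D2 {q : ℕ} (hq : 1 ≤ q) (R : Type*) [CommRing R] :
    (D2 q : R) = (q : R) ^ (2:ℕ) * (q ^ (4:ℕ) + q ^ (2:ℕ) + 1) ^ (2:ℕ) * (q ^ (4:ℕ) - q ^ (2:ℕ) + 1) := by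
  rw [← cast_sub R hq, D2]
  push_cast
  ring

theorem cast_D3 {q : ℕ} (hq : 1 ≤ q) (R : Type*) [CommRing R] :
    (D3 q : R) = (q : R) ^ (3:ℕ) * (q ^ (2:ℕ) + 1) ^ (2:ℕ) * (q ^ (4:ℕ) + 1) * (q ^ (4:ℕ) - q ^ (2:ℕ) + 1) := by
  rw [← cast_sub R hq, D3]
  push_cast
  ring

theorem dvd3 {q : ℕ} (hq : 1 ≤ q) : q ^ (2:ℕ) + q + 1 ∣ q ^ (6:ℕ) - 1 := by
  obtain ⟨k, rfl⟩ := Nat.exists_eq_add_of_le' hq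
  have : (k + 1) ^ (6:ℕ) = ((k + 1) ^ (2:ℕ) + (k + 1) + 1) * (k * ((k + 1) ^ (3:ℕ) + 1)) + 1 := by ring
  rw [this, Nat.add_sub_cancel]
  exact Dvd.intro _ rfl

theorem dvd4 {q : ℕ} (hq : 1 ≤ q) : q ^ (2:ℕ) + 1 ∣ q ^ (8:ℕ) - 1 := by
  obtain ⟨k, rfl⟩ := Nat.exists_eq_add_of_le' hq
  have : (k + 1) ^ (8:ℕ) = ((k + 1) ^ (2:ℕ) + 1) * (k * (k + 2) * ((k + 1) ^ (4:ℕ) + 1)) + 1 := by ring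
  rw [this, Nat.add_sub_cancel]
  exact Dvd.intro _ rfl

/-- a number divisible by all the primes dividing `q² + q + 1` and `q² + 1` is none of the three degrees -/
theorem ne_deg {q N : ℕ} (hq : 2 ≤ q) (h1 : ∀ ℓ : ℕ, ℓ.Prime → ℓ ∣ q ^ (2:ℕ) + q + 1 → ℓ ∣ N)
    (h2 : ∀ ℓ : ℕ, ℓ.Prime → ℓ ∣ q ^ (2:ℕ) + 1 → ℓ ∣ N) : N ≠ D1 q ∧ N ≠ D2 q ∧ N ≠ D3 q := by
  have key : ∃ ℓ : ℕ, ℓ.Prime ∧ ℓ ∣ q ^ (2:ℕ) + q + 1 := Nat.exists_prime_and_dvd (by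
    have := Nat.zero_le (q ^ (2:ℕ))
    omega)
  obtain ⟨ℓ, hℓ, hd⟩ := key
  have hodd : ℓ ≠ 2 := by
    rintro rfl
    have h3 : Even (q ^ (2:ℕ) + q) := by
      rw [show q ^ (2:ℕ) + q = q * (q + 1) by ring]
      exact Nat.even_mul_succ_self q
    have h4 : ¬ Even (q ^ (2:ℕ) + q + 1) := Nat.not_even_iff_odd.2 h3.add_one
    exact h4 (even_iff_two_dvd.2 hd)
  have : Fact ℓ.Prime := ⟨hℓ⟩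
  have hz : (q : ZMod ℓ) ^ (2:ℕ) + q + 1 = 0 := by
    have := (ZMod.natCast_eq_zero_iff _ _).2 hd
    push_cast at this
    exact this
  have h2z : (2 : ZMod ℓ) ≠ 0 := by
    intro h
    apply hodd
    have h3 : ((2 : ℕ) : ZMod ℓ) = 0 := by exact_mod_cast h
    exact (Nat.prime_dvd_prime_iff_eq hℓ Nat.prime_two).1 ((ZMod.natCast_eq_zero_iff _ _).1 h3)
  have hN := (ZMod.natCast_eq_zero_iff _ _).2 (h1 ℓ hℓ hd)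
  have h3 : (q : ZMod ℓ) ^ (3:ℕ) = 1 := by linear_combination ((q : ZMod ℓ) - 1) * hz
  refine ⟨?_, ?_, ?_⟩
  · rintro rfl
    have h4 := cast_D1 (q := q) (ZMod ℓ)
    rw [hN, zero_mul] at h4
    have h5 : (2 : ZMod ℓ) * 2 = 0 := by
      have e4 : (q : ZMod ℓ) ^ (4:ℕ) = q := by
        rw [pow_succ, h3, one_mul]
      rw [h3, e4] at h4
      linear_combination h4 + 4 * hz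
    rcases mul_eq_zero.1 h5 with h | h <;> exact h2z h
  · rintro rfl
    obtain ⟨m, hm, hmd⟩ := Nat.exists_prime_and_dvd (n := q ^ (2:ℕ) + 1) (by
      have : 0 < q ^ (2:ℕ) := by positivity
      omega)
    have : Fact m.Prime := ⟨hm⟩
    have hz' : (q : ZMod m) ^ (2:ℕ) + 1 = 0 := by
      have := (ZMod.natCast_eq_zero_iff _ _).2 hmd
      push_cast at this
      exact this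
    have hN' := (ZMod.natCast_eq_zero_iff _ _).2 (h2 m hm hmd)
    rw [cast_D2 (by omega)] at hN'
    have e2 : (q : ZMod m) ^ (2:ℕ) = -1 := by linear_combination hz'
    have e4 : (q : ZMod m) ^ (4:ℕ) = 1 := by
      rw [show (4 : ℕ) = 2 * 2 from rfl, pow_mul, e2]; ring
    rw [e2, e4] at hN'
    have h5 : ((3 : ℕ) : ZMod m) = 0 := by
      push_cast
      linear_combination -hN'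
    have h6 : m = 3 := (Nat.prime_dvd_prime_iff_eq hm Nat.prime_three).1 ((ZMod.natCast_eq_zero_iff _ _).1 h5)
    rw [h6] at hmd
    have h7 : q % 3 = 0 ∨ q % 3 = 1 ∨ q % 3 = 2 := by omega
    rcases h7 with h | h | h <;> simp only [Nat.dvd_iff_mod_eq_zero, Nat.add_mod, Nat.pow_mod, h, _root_.ne_eq, _root_.OfNat.ofNat_ne_zero, _root_.not_false_eq_true, _root_.zero_pow, _root_.Nat.zero_mod, _root_.Nat.one_mod, _root_.zero_add, _root_.one_ne_zero, _root_.one_pow, _root_.Nat.reduceAdd, _root_.Nat.mod_succ, _root_.Nat.reducePow, _root_.Nat.reduceMod] at hmd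
  · rintro rfl
    rw [cast_D3 (by omega)] at hN
    have e4 : (q : ZMod ℓ) ^ (4:ℕ) = q := by
      rw [pow_succ, h3, one_mul]
    have h5 : (2 : ZMod ℓ) = 0 := by
      have e2 : (q : ZMod ℓ) ^ (2:ℕ) = -q - 1 := by linear_combination hz
      rw [h3, e4, e2] at hN
      linear_combination hN - 2 * ((q : ZMod ℓ) ^ (2:ℕ) + q - 1) * hz
    exact h2z h5

/-- one of the three degrees is divisible by `p` -/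
theorem dvd_deg {q p : ℕ} (hq : 2 ≤ q) (hp : p.Prime) (hpq : ¬ p ∣ q) (hc : p = 2 ∨ ¬ p ∣ q - 1)
    (hd : p ∣ q ^ (24:ℕ) * (q ^ (2:ℕ) - 1) * (q ^ (6:ℕ) - 1) * (q ^ (8:ℕ) - 1) * (q ^ (12:ℕ) - 1)) :
    p ∣ D1 q ∨ p ∣ D2 q ∨ p ∣ D3 q := by
  have : Fact p.Prime := ⟨hp⟩
  by_cases hp2 : p = 2
  · subst hp2
    left
    have hodd : Odd q := by
      rw [← Nat.not_even_iff_odd, even_iff_two_dvd]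
      exact hpq
    have h1 : Even (q ^ (3:ℕ) + 1) := hodd.pow.add_one
    obtain ⟨k, hk⟩ := h1.two_dvd
    have h2 := D1_two q
    rw [hk] at h2
    have h3 : D1 q = 2 * (q * k ^ (2:ℕ) * (q ^ (4:ℕ) + 1)) := by
      have : D1 q * 2 = 2 * (q * k ^ (2:ℕ) * (q ^ (4:ℕ) + 1)) * 2 := by rw [h2]; ring
      omega
    exact ⟨_, h3⟩
  have hc := hc.resolve_left hp2
  have h1z : (q : ZMod p) - 1 ≠ 0 := by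
    intro h
    apply hc
    rw [← ZMod.natCast_eq_zero_iff, Nat.cast_sub (by omega), Nat.cast_one]
    exact h
  have h0z : (q : ZMod p) ≠ 0 := by
    rw [Ne, ZMod.natCast_eq_zero_iff]
    exact hpq
  have h2z : (2 : ZMod p) ≠ 0 := by
    intro h
    apply hp2
    have h3 : ((2 : ℕ) : ZMod p) = 0 := by exact_mod_cast h
    exact (Nat.prime_dvd_prime_iff_eq hp Nat.prime_two).1 ((ZMod.natCast_eq_zero_iff _ _).1 h3)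
  have hcast : ∀ k : ℕ, ((q ^ k - 1 : ℕ) : ZMod p) = (q : ZMod p) ^ k - 1 := fun k => by
    rw [Nat.cast_sub (Nat.one_le_pow _ _ (by omega)), Nat.cast_pow, Nat.cast_one]
  have hprod : ((q : ZMod p) ^ (2:ℕ) - 1) * ((q : ZMod p) ^ (6:ℕ) - 1) * ((q : ZMod p) ^ (8:ℕ) - 1) * ((q : ZMod p) ^ (12:ℕ) - 1) = 0 := by
    have h := (ZMod.natCast_eq_zero_iff _ _).2 hd
    rw [Nat.cast_mul, Nat.cast_mul, Nat.cast_mul, Nat.cast_mul, hcast, hcast, hcast, hcast, Nat.cast_pow] at h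
    have h24 : (q : ZMod p) ^ (24:ℕ) ≠ 0 := pow_ne_zero _ h0z
    have : (q : ZMod p) ^ (24:ℕ) * (((q : ZMod p) ^ (2:ℕ) - 1) * ((q : ZMod p) ^ (6:ℕ) - 1) * ((q : ZMod p) ^ (8:ℕ) - 1) *
        ((q : ZMod p) ^ (12:ℕ) - 1)) = 0 := by linear_combination h
    exact (mul_eq_zero.1 this).resolve_left h24
  -- the factors
  generalize hx : (q : ZMod p) = x at *
  have hfac : (x + 1) = 0 ∨ (x ^ (2:ℕ) + x + 1 = 0) ∨ (x ^ (2:ℕ) - x + 1 = 0) ∨ (x ^ (2:ℕ) + 1 = 0) ∨ (x ^ (4:ℕ) + 1 = 0) ∨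
      (x ^ (4:ℕ) - x ^ (2:ℕ) + 1 = 0) := by
    have h : (x - 1) ^ (4:ℕ) * ((x + 1) ^ (4:ℕ) * (x ^ (2:ℕ) + x + 1) ^ (2:ℕ) * (x ^ (2:ℕ) - x + 1) ^ (2:ℕ) * (x ^ (2:ℕ) + 1) ^ (2:ℕ) * (x ^ (4:ℕ) + 1) *
        (x ^ (4:ℕ) - x ^ (2:ℕ) + 1)) = 0 := by linear_combination hprod
    have h' := (mul_eq_zero.1 h).resolve_left (pow_ne_zero _ h1z)
    rcases mul_eq_zero.1 h' with h' | h'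
    · rcases mul_eq_zero.1 h' with h' | h'
      · rcases mul_eq_zero.1 h' with h' | h'
        · rcases mul_eq_zero.1 h' with h' | h'
          · rcases mul_eq_zero.1 h' with h' | h'
            · exact Or.inl (pow_eq_zero_iff (by norm_num) |>.1 h')
            · exact Or.inr (Or.inl (pow_eq_zero_iff (by norm_num) |>.1 h'))
          · exact Or.inr (Or.inr (Or.inl (pow_eq_zero_iff (by norm_num) |>.1 h')))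
        · exact Or.inr (Or.inr (Or.inr (Or.inl (pow_eq_zero_iff (by norm_num) |>.1 h'))))
      · exact Or.inr (Or.inr (Or.inr (Or.inr (Or.inl h'))))
    · exact Or.inr (Or.inr (Or.inr (Or.inr (Or.inr h'))))
  have d1 : x * (x ^ (3:ℕ) + 1) ^ (2:ℕ) * (x ^ (4:ℕ) + 1) = 0 → p ∣ D1 q := by
    intro h
    rw [← ZMod.natCast_eq_zero_iff]
    have h4 := cast_D1 (q := q) (ZMod p)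
    rw [hx, h] at h4
    exact (mul_eq_zero.1 h4).resolve_right h2z
  have d2 : x ^ (2:ℕ) * (x ^ (4:ℕ) + x ^ (2:ℕ) + 1) ^ (2:ℕ) * (x ^ (4:ℕ) - x ^ (2:ℕ) + 1) = 0 → p ∣ D2 q := by
    intro h
    rw [← ZMod.natCast_eq_zero_iff, cast_D2 (by omega), hx, h]
  have d3 : x ^ (3:ℕ) * (x ^ (2:ℕ) + 1) ^ (2:ℕ) * (x ^ (4:ℕ) + 1) * (x ^ (4:ℕ) - x ^ (2:ℕ) + 1) = 0 → p ∣ D3 q := by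
    intro h
    rw [← ZMod.natCast_eq_zero_iff, cast_D3 (by omega), hx, h]
  rcases hfac with h | h | h | h | h | h
  · left; apply d1
    have : x ^ (3:ℕ) + 1 = 0 := by linear_combination (x ^ (2:ℕ) - x + 1) * h
    rw [this]; ring
  · right; left; apply d2
    have : x ^ (4:ℕ) + x ^ (2:ℕ) + 1 = 0 := by linear_combination (x ^ (2:ℕ) - x + 1) * h
    rw [this]; ring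
  · left; apply d1
    have : x ^ (3:ℕ) + 1 = 0 := by linear_combination (x + 1) * h
    rw [this]; ring
  · right; right; apply d3
    rw [h]; ring
  · left; apply d1
    rw [h]; ring
  · right; left; apply d2
    rw [h]; ring

theorem cartan_eq (i k : Fin 4) :
    Cfsg.Agent.ChevalleyStructure.CoxeterGeomTypes.cartanOf chevF4 4 i k = AA i k := by
  have h : ∀ i j : Fin 4, chevF4.cartan i.val (chevF4.simple j) = AA i j := by decide +kernel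
  exact h i k

/-- **`F₄(q)`**, `p` not the characteristic, `p = 2` or `p ∤ q - 1`. -/
theorem two_cross {K : Type u} [Field K] [Fintype K] {r f : ℕ} (hr : r.Prime) (hf : f ≠ 0)
    (hK : Fintype.card K = r ^ f) [CharP K r] {p : ℕ} (hp : p.Prime) (hd : p ∣ Nat.card ↥(chevF4.group K))
    (hpr : p ≠ r) (hc : p = 2 ∨ ¬ p ∣ r ^ f - 1) : H596.OneFacts.Two p ↥(chevF4.group K) := by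
  have := finite_group (K := K) chevF4
  have D := data_F4_2 hr hf hK
  have := D.fin
  have h2 := two_le hr hf
  obtain ⟨χ, hχ, N, hN, hall, -⟩ : BigF r (r ^ f) ↥(chevF4.group K) := ExcRows.big_F4 hr hf hK
    (in_A2 D (by decide +kernel) rfl) (in_node D 3 2 (by decide +kernel))
  have hcard := Cfsg.Agent.S1062.result hK
  have hpq : ¬ p ∣ r ^ f := fun h => hpr ((Nat.prime_dvd_prime_iff_eq hp hr).1 (hp.dvd_of_dvd_pow h))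
  have hrq : ∀ ℓ : ℕ, ℓ.Prime → ℓ = r → ℓ ∣ r ^ f := fun ℓ _ h => by rw [h]; exact dvd_pow_self r hf
  have hne := ne_deg (q := r ^ f) (N := N) h2
    (fun ℓ hℓ h => hall ℓ hℓ (by
      rw [hcard]
      exact Dvd.dvd.mul_right (Dvd.dvd.mul_right (Dvd.dvd.mul_left (h.trans (dvd3 (by omega))) _) _) _) (by
      intro e
      have h3 := hrq ℓ hℓ e
      have h4 : ℓ ∣ 1 := by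
        have h5 : (r ^ f) ^ (2:ℕ) + r ^ f + 1 = r ^ f * (r ^ f + 1) + 1 := by ring
        rw [h5] at h
        exact (Nat.dvd_add_right (Dvd.dvd.mul_right h3 _)).1 h
      exact hℓ.one_lt.ne' (Nat.dvd_one.1 h4)))
    (fun ℓ hℓ h => hall ℓ hℓ (by
      rw [hcard]
      exact Dvd.dvd.mul_right (Dvd.dvd.mul_left (h.trans (dvd4 (by omega))) _) _) (by
      intro e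
      have h3 := hrq ℓ hℓ e
      have h4 : ℓ ∣ 1 := by
        have h5 : (r ^ f) ^ (2:ℕ) + 1 = r ^ f * r ^ f + 1 := by ring
        rw [h5] at h
        exact (Nat.dvd_add_right (Dvd.dvd.mul_right h3 _)).1 h
      exact hℓ.one_lt.ne' (Nat.dvd_one.1 h4)))
  have hq1 : 1 ≤ r ^ f := by omega
  rw [hcard] at hd
  rcases dvd_deg h2 hp hpq hc hd with h | h | h
  · obtain ⟨ψ, hψ, -, hψ1⟩ := exists_d1 D.rgd D.gg cartan_eq h2 D.size (D1 (r ^ f)) (cast_D1 ℚ)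
    exact TwoRows.two_of hχ hψ hN hψ1 (hall p hp (by rw [hcard]; exact hd) hpr) h hne.1
  · obtain ⟨ψ, hψ, -, hψ1⟩ := exists_d2 D.rgd D.gg cartan_eq h2 D.size (D2 (r ^ f)) (cast_D2 hq1 ℚ)
    exact TwoRows.two_of hχ hψ hN hψ1 (hall p hp (by rw [hcard]; exact hd) hpr) h hne.2.1
  · obtain ⟨ψ, hψ, -, hψ1⟩ := exists_d3 D.rgd D.gg cartan_eq h2 D.size (D3 (r ^ f)) (cast_D3 hq1 ℚ)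
    exact TwoRows.two_of hχ hψ hN hψ1 (hall p hp (by rw [hcard]; exact hd) hpr) h hne.2.2

/-- the row -/
theorem two_F4_cross {S : Type*} [Group S] {K : Type u} [Field K] [Fintype K] (e : S ≃* ↥(chevF4.group K)) {r : ℕ}
    [CharP K r] {p : ℕ} (hp : p.Prime) (hd : p ∣ Nat.card S) (hpr : p ≠ r)
    (hc : p = 2 ∨ ¬ p ∣ Fintype.card K - 1) : H596.OneFacts.Two p S := by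
  obtain ⟨f, hr, hf⟩ := FiniteField.card K r
  rw [hf] at hc
  rw [Nat.card_congr e.toEquiv] at hd
  exact TwoRows.Two.of_equiv e (two_cross hr f.ne_zero hf hp hd hpr hc)

end Cfsg.Agent.H654.Two.F4Row
end

private theorem dce_0026c6e858b6 : _root_.True := by
  try have : _root_.True := by simp only [_root_.Cfsg.Agent.H654.Two.F4Tab.tab.congr_simp]
  try have : _root_.True := by simp only [_root_.Cfsg.Agent.H654.Two.F4Row.D3.eq_1]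
  try have : _root_.True := by simp only [_root_.Cfsg.Agent.H654.Two.F4Row.D2.eq_1]
  try have : _root_.True := by simp only [_root_.Cfsg.Agent.H654.Two.F4Tab.DD.eq_1]
  exact _root_.True.intro
end

-- part: H560/TwoM
section
set_option linter.all false
open scoped Cfsg.Agent.FastGrp

/-!
# The Monster: two characters of degree divisible by `p` (FactTwo, helper560)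

From the degrees of `Cfsg.Agent.H816.IMM`.
-/

set_option autoImplicit false

namespace Cfsg.Agent.H560.TwoM

open Cfsg Cfsg.Agent.H596.OneFacts Cfsg.Agent.H651.Two Cfsg.Agent.H816

universe u

/-- the known degrees -/
def degs : List ℕ := [196883, 842609326, 18538750076, 36173193327999, 1109944460516150,
  251098487132187500, 49609712911192813665, 47377503606648784400]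

theorem deg_of {S : Type u} [Group S] {n : ℕ} (hn : ∃ χ : S → ℂ, IsIrrCharacter S χ ∧ χ 1 = (n : ℂ)) :
    ∃ χ : IrrCharacter S, charDegree (χ : S → ℂ) = n := by
  obtain ⟨χ, h1, h2⟩ := hn
  exact ⟨⟨χ, h1⟩, H670.PSing.charDegree_eq_of h2⟩

theorem deg_m {S : Type u} [Group S] (h : Spor.IsoM S) : ∀ n ∈ degs,
    ∃ χ : IrrCharacter S, charDegree (χ : S → ℂ) = n := by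
  intro n hn
  simp only [degs, List.mem_cons, List.not_mem_nil, or_false] at hn
  rcases hn with rfl | rfl | rfl | rfl | rfl | rfl | rfl | rfl
  · exact deg_of (by simpa using IMM.exists_chi_196883 h)
  · exact deg_of (by simpa using IMM.exists_chi_842609326 h)
  · exact deg_of (by simpa using IMM.exists_chi_18538750076 h)
  · exact deg_of (by simpa using IMM.exists_chi_36173193327999 h)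
  · exact deg_of (by simpa using IMM.exists_chi_1109944460516150 h)
  · exact deg_of (by simpa using IMM.exists_chi_251098487132187500 h)
  · exact deg_of (by simpa using IMM.exists_chi_49609712911192813665 h)
  · exact deg_of (by simpa using IMM.exists_chi_47377503606648784400 h)

theorem exists_two : ∀ p ∈ ([2, 3, 5, 7, 11, 13, 17, 19, 23, 29, 31, 41, 47, 59, 71] : List ℕ),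
    ∃ a ∈ degs, ∃ b ∈ degs, p ∣ a ∧ p ∣ b ∧ a ≠ b := by
  decide +kernel

/-- **The row `M`.** -/
theorem two_m {S : Type u} [Group S] (h : Cfsg.Spor.IsoM S) {p : ℕ} [hp : Fact p.Prime]
    (hd : p ∣ Nat.card S) : TwoOr p S := by
  rw [IMM.card_eq h] at hd
  obtain ⟨a, ha, b, hb, h1, h2, h3⟩ := exists_two p (IMM.prime_mem hp.out hd)
  exact .inl (two_of_degs (deg_m h a ha) (deg_m h b hb) h1 h2 h3)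

end Cfsg.Agent.H560.TwoM

private theorem dce_3fe86048be8c : _root_.True := by
  try have : _root_.True := by simp only [_root_.Cfsg.Agent.H560.TwoM.degs.eq_1]
  exact _root_.True.intro
end
end
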